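import Cfsg.Agent.Lib.SmallCofactor.Basic
import Cfsg.Agent.Lib.DefectOne.PrincipalOne
import Cfsg.Agent.Lib.DefectOne.Three
import Cfsg.Agent.Lib.Char.ClassSum
import Cfsg.Agent.Lib.CharInt.Burnside

/-!
# No simple group has order `3 · 2^b · r²`

The principal `3`-block has degrees `1, r, r ± 1`.  Its class function supported on the
`3`-singular elements, paired with the class multiplication of two copies of an involution class,
gives an identity with an odd power of `r` on one side and an even power on the other.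
-/

set_option autoImplicit false
set_option linter.style.haveILetI false
set_option linter.unusedSectionVars false

namespace Cfsg.Agent.SmallCofactor

open Cfsg
open scoped Classical ComplexConjugate

universe u

variable {G : Type u} [Group G] [Fintype G]

theorem pow_eq_self_of_cube {y : G} (hy : y ^ 3 = 1) {e : ℕ} (he : e % 3 = 1) : y ^ e = y := by
  conv_lhs => rw [← Nat.mod_add_div e 3, he, pow_add, pow_mul, hy, one_pow, mul_one, pow_one]

theorem exists_pow_lt_three {y z : G} (hy : orderOf y = 3) (hz : z ∈ Subgroup.zpowers y) :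
    ∃ k, k < 3 ∧ y ^ k = z := by
  obtain ⟨a, ha⟩ := (isOfFinOrder_of_finite y).mem_powers_iff_mem_zpowers.2 hz
  exact ⟨a % 3, Nat.mod_lt _ (by norm_num), by rw [← hy, pow_mod_orderOf]; exact ha⟩

theorem pow_eq_pow_iff_fin {y : G} (hy : orderOf y = 3) {i j : Fin 3} :
    y ^ (i : ℕ) = y ^ (j : ℕ) ↔ i = j := by
  constructor
  · intro h
    rw [pow_eq_pow_iff_modEq, hy] at h
    exact Fin.ext (Nat.ModEq.eq_of_lt_of_lt h i.2 j.2)
  · rintro rfl; rfl

/-- With a Sylow `3`-subgroup of order three, an element of order dividing three centralising `y`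
is a power of `y`. -/
theorem exists_pow_of_cube (hsyl : ∀ H : Subgroup G, IsPGroup 3 H → Nat.card H ≤ 3) {y z : G}
    (hy : orderOf y = 3) (hz : z ^ 3 = 1) (hc : Commute y z) :
    ∃ i : Fin 3, z = y ^ (i : ℕ) := by
  haveI : Fact (Nat.Prime 3) := ⟨Nat.prime_three⟩
  have hpg : ∀ w : G, w ^ 3 = 1 → IsPGroup 3 (Subgroup.zpowers w) := fun w hw => by
    obtain ⟨i, -, hi⟩ := (Nat.dvd_prime_pow Nat.prime_three).1
      (show orderOf w ∣ 3 ^ 1 by rw [pow_one]; exact orderOf_dvd_of_pow_eq_one hw)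
    exact IsPGroup.of_card (n := i) (by rw [Nat.card_zpowers, hi])
  have hnorm : Subgroup.zpowers z ≤ Subgroup.normalizer (Subgroup.zpowers y : Set G) := by
    refine le_trans ?_ (Subgroup.centralizer_le_normalizer _)
    rw [Subgroup.zpowers_le, Subgroup.mem_centralizer_iff]
    rintro w ⟨i, rfl⟩
    exact (hc.zpow_left i).eq
  have hy3 : y ^ 3 = 1 := by rw [← hy, pow_orderOf_eq_one]
  have hH := (hpg y hy3).to_sup_of_normal_left' (hpg z hz) hnorm
  have heq : Subgroup.zpowers y = Subgroup.zpowers y ⊔ Subgroup.zpowers z :=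
    Subgroup.eq_of_le_of_card_ge le_sup_left (by rw [Nat.card_zpowers, hy]; exact hsyl _ hH)
  have hmem : z ∈ Subgroup.zpowers y := heq ▸ Subgroup.mem_sup_right (Subgroup.mem_zpowers z)
  obtain ⟨k, hk, hkz⟩ := exists_pow_lt_three hy hmem
  exact ⟨⟨k, hk⟩, hkz.symm⟩

/-- The character value at an involution of an odd-degree character is not zero. -/
theorem apply_invol_ne_zero {χ : IrrCharacter G} {t : G} (ht : orderOf t = 2)
    (hodd : Odd (charDegree χ.1)) : χ.1 t ≠ 0 := by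
  obtain ⟨n, μ, h1, hμ, hpow⟩ := CharInt.exists_roots (Char.irr_isCharacter χ) t
  have hn : charDegree χ.1 = n := by
    have h : (charDegree χ.1 : ℂ) = n := by rw [Char.charDegree_cast, h1]
    exact_mod_cast h
  intro h0
  have hs := hpow 1
  simp only [pow_one] at hs
  rw [h0] at hs
  have hμ' : ∀ i, μ i = (((1 : ℤ) - 2 * (if μ i = -1 then 1 else 0) : ℤ) : ℂ) := fun i => by
    have h2 : μ i * μ i = 1 := by rw [← pow_two, ← ht]; exact hμ i
    rcases mul_self_eq_one_iff.1 h2 with h | h <;> rw [h] <;> norm_num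
  rw [Finset.sum_congr rfl fun i _ => hμ' i, ← Int.cast_sum] at hs
  have h2 : (0 : ℤ) = ∑ i : Fin n, ((1 : ℤ) - 2 * (if μ i = -1 then 1 else 0)) := by exact_mod_cast hs
  rw [Finset.sum_sub_distrib, ← Finset.mul_sum] at h2
  simp only [Finset.sum_const, Finset.card_univ, Fintype.card_fin, nsmul_eq_mul, mul_one] at h2
  rw [hn] at hodd
  obtain ⟨k, hk⟩ := hodd
  push_cast [hk] at h2
  omega

/-- The class function of the principal `3`-block vanishing on the regular elements. -/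
theorem exists_block_three [IsSimpleGroup G] (hG : ¬ IsMulCommutative G)
    (P : Sylow 3 G) (hP : Nat.card P = 3) (hpd : 3 ∣ Nat.card G) :
    ∃ (α β : IrrCharacter G) (c₀ cα cβ : ℤ) (C : ℂ),
      (∀ c ∈ [c₀, cα, cβ], c = 1 ∨ c = -1) ∧ α ≠ Char.trivialChar G ∧ β ≠ Char.trivialChar G ∧
      α ≠ β ∧ ¬ 3 ∣ charDegree α.1 ∧ ¬ 3 ∣ charDegree β.1 ∧
      c₀ + cα * (charDegree α.1 : ℤ) + cβ * (charDegree β.1 : ℤ) = 0 ∧
      (∀ g : G, ¬ 3 ∣ orderOf g → (c₀ : ℂ) + cα * α.1 g + cβ * β.1 g = 0) ∧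
      (∀ g : G, 3 ∣ orderOf g → (c₀ : ℂ) + cα * α.1 g + cβ * β.1 g = C) ∧
      (∀ y z : G, orderOf y = 3 → orderOf z = 3 → IsConj y z) := by
  haveI : Fact (Nat.Prime 3) := ⟨Nat.prime_three⟩
  obtain ⟨M, hM⟩ := CharInt.exists_isPModular_of_prime Nat.prime_three
  haveI := hM.2.1
  have hpM := hM.2.2
  have hd := DefectOne.freeData_of_card_eq (P := P) hP
  obtain ⟨s⟩ := DefectOne.primeShape hpM hP (M := M) rfl
  have hreg1 : IsPRegular 3 (1 : G) := by simp [IsPRegular]
  have htdeg : charDegree (Char.trivialChar G).1 = 1 := by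
    apply Nat.cast_injective (R := ℂ)
    rw [Char.charDegree_cast, Nat.cast_one]
    rfl
  have htriv : Char.trivialChar G ∈ s.X ∨ Char.trivialChar G ∈ s.Y := by
    have h : Char.trivialChar G ∈ principalBlock M G := Blocks.trivial_mem_principalBlock
    rw [s.union] at h
    exact h
  have hYdeg : ∀ θ ∈ s.Y, ∀ θ' ∈ s.Y, charDegree θ.1 = charDegree θ'.1 := fun θ hθ θ' hθ' => by
    apply Nat.cast_injective (R := ℂ)
    rw [Char.charDegree_cast, Char.charDegree_cast]
    exact s.agree θ hθ θ' hθ' 1 hreg1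
  have hnot1 : ∀ {χ : IrrCharacter G}, χ ≠ Char.trivialChar G → charDegree χ.1 ≠ 1 := fun h e => by
    have := one_lt_degree hG h; omega
  -- the inertial index is two
  have hm : (Subgroup.centralizer ((P : Subgroup G) : Set G)).relIndex
      (Subgroup.normalizer ((P : Subgroup G) : Set G)) = 2 := by
    rcases (Nat.dvd_prime Nat.prime_two).1 (show _ ∣ 2 from s.m_dvd) with h | h
    · exfalso
      obtain ⟨χ, hχ⟩ := Finset.card_eq_one.1 (s.cardX.trans h)
      obtain ⟨θ, θ', hne, hY⟩ := Finset.card_eq_two.1 (show s.Y.card = 2 by rw [s.cardY, h])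
      rcases htriv with ht | ht
      · rw [hχ, Finset.mem_singleton] at ht
        have hθY : θ ∈ s.Y := by rw [hY]; simp
        have hr := s.relation θ hθY 1 hreg1
        rw [hχ, Finset.sum_singleton, ← ht, ← Char.charDegree_cast, ← Char.charDegree_cast,
          htdeg] at hr
        have hr' : s.ε * (charDegree θ.1 : ℤ) = s.εX (Char.trivialChar G) := by
          apply Int.cast_injective (α := ℂ)
          push_cast at hr ⊢
          simpa using hr
        have hθne : θ ≠ Char.trivialChar G := fun e =>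
          Finset.disjoint_left.1 s.disj (hχ ▸ Finset.mem_singleton.2 ht) (e ▸ hθY)
        apply hnot1 hθne
        rcases s.hε with e | e <;>
          rcases s.hεX _ (hχ ▸ Finset.mem_singleton.2 ht) with e' | e' <;>
          rw [e, e'] at hr' <;> omega
      · obtain ⟨η, hη, hηne⟩ : ∃ η ∈ s.Y, η ≠ Char.trivialChar G := by
          by_cases e : θ = Char.trivialChar G
          · exact ⟨θ', by rw [hY]; simp, fun e' => hne (e.trans e'.symm)⟩
          · exact ⟨θ, by rw [hY]; simp, e⟩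
        exact hnot1 hηne ((hYdeg η hη _ ht).trans htdeg)
    · exact h
  obtain ⟨χ₁, χ₂, h12, hX⟩ := Finset.card_eq_two.1 (show s.X.card = 2 from s.cardX.trans hm)
  obtain ⟨θ, hY⟩ := Finset.card_eq_one.1 (show s.Y.card = 1 by rw [s.cardY, hm])
  have hθY : θ ∈ s.Y := by rw [hY]; simp
  have hX1 : χ₁ ∈ s.X := by rw [hX]; simp
  have hX2 : χ₂ ∈ s.X := by rw [hX]; simp
  have hX3 : ∀ χ ∈ s.X, ¬ 3 ∣ charDegree χ.1 := fun χ hχ h => by
    have h1 := s.X_deg χ hχ
    rw [Int.modEq_iff_dvd] at h1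
    rcases s.hεX χ hχ with e | e <;> rw [e] at h1 <;> omega
  have hY3 : ¬ 3 ∣ charDegree θ.1 := fun h => by
    have h1 := s.Y_deg θ hθY
    have hm' : (((Subgroup.centralizer ((P : Subgroup G) : Set G)).relIndex
        (Subgroup.normalizer ((P : Subgroup G) : Set G)) : ℕ) : ℤ) = 2 := by rw [hm]; norm_num
    rw [Int.modEq_iff_dvd, hm'] at h1
    rcases s.hε with e | e <;> rw [e] at h1 <;> omega
  have hrel : ∀ g : G, ¬ 3 ∣ orderOf g →
      (s.εX χ₁ : ℂ) * χ₁.1 g + (s.εX χ₂ : ℂ) * χ₂.1 g + ((-s.ε : ℤ) : ℂ) * θ.1 g = 0 := fun g hg => by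
    have h := s.relation θ hθY g hg
    rw [hX, Finset.sum_pair h12] at h
    push_cast
    linear_combination -h
  -- conjugacy of the elements of order three
  have hgen : ∀ y ∈ (P : Subgroup G), y ≠ 1 → Subgroup.zpowers y = (P : Subgroup G) := fun y hy hy1 => by
    refine Subgroup.eq_of_le_of_card_ge ((Subgroup.zpowers_le).2 hy) ?_
    rw [Nat.card_zpowers, show Nat.card (P : Subgroup G) = 3 from hP]
    have h := (Nat.dvd_prime Nat.prime_three).1
      (show orderOf y ∣ 3 from hP ▸ Subgroup.orderOf_dvd_natCard _ hy)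
    rcases h with h | h
    · exact absurd (orderOf_eq_one_iff.1 h) hy1
    · omega
  obtain ⟨n, hnN, hnC⟩ : ∃ n ∈ Subgroup.normalizer ((P : Subgroup G) : Set G),
      n ∉ Subgroup.centralizer ((P : Subgroup G) : Set G) := by
    by_contra! h
    have h1 := Subgroup.relIndex_eq_one.2 h
    omega
  have hconjP : ∀ y ∈ (P : Subgroup G), ∀ z ∈ (P : Subgroup G), y ≠ 1 → z ≠ 1 → IsConj y z := by
    intro y hy z hz hy1 hz1
    have hzy : z ∈ Subgroup.zpowers y := (hgen y hy hy1).symm ▸ hz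
    have hy3 : orderOf y = 3 := by
      rw [← Nat.card_zpowers, hgen y hy hy1]; exact hP
    obtain ⟨k, hk, hkz⟩ := exists_pow_lt_three hy3 hzy
    interval_cases k
    · rw [pow_zero] at hkz; exact absurd hkz.symm hz1
    · rw [pow_one] at hkz; exact hkz ▸ IsConj.refl y
    · have hny : n * y * n⁻¹ ∈ (P : Subgroup G) := (Subgroup.mem_normalizer_iff.1 hnN y).1 hy
      obtain ⟨a, -, ha⟩ := exists_pow_lt_three hy3 ((hgen y hy hy1).symm ▸ hny)
      refine isConj_iff.2 ⟨n, ?_⟩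
      rw [← ha, ← hkz, ← pow_mod_orderOf, hy3]
      congr 1
      have hlt := Nat.mod_lt a (show 3 > 0 by norm_num)
      have h0 : a % 3 ≠ 0 := fun h => hy1 (by
        have h' : n * y * n⁻¹ = 1 := by rw [← ha, ← pow_mod_orderOf, hy3, h, pow_zero]
        exact conj_eq_one_iff.1 h')
      have h1 : a % 3 ≠ 1 := fun h => hnC (Subgroup.mem_centralizer_iff.2 fun w hw => by
        have h' : n * y * n⁻¹ = y := by rw [← ha, ← pow_mod_orderOf, hy3, h, pow_one]
        have hny' : Commute n y := mul_inv_eq_iff_eq_mul.1 h'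
        have hw' : w ∈ Subgroup.zpowers y := (hgen y hy hy1).symm ▸ hw
        obtain ⟨i, rfl⟩ := hw'
        exact (hny'.zpow_right i).eq.symm)
      omega
  have htoP : ∀ y : G, orderOf y = 3 → ∃ c : G, c * y * c⁻¹ ∈ (P : Subgroup G) := fun y hy => by
    obtain ⟨Q, hQ⟩ := IsPGroup.exists_le_sylow
      (IsPGroup.of_card (p := 3) (n := 1) (by rw [Nat.card_zpowers, hy, pow_one]) : IsPGroup 3 (Subgroup.zpowers y))
    obtain ⟨c, hc⟩ := MulAction.exists_smul_eq G Q P
    refine ⟨c, ?_⟩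
    rw [← hc, Sylow.coe_subgroup_smul]
    exact Subgroup.mem_map.2 ⟨y, hQ (Subgroup.mem_zpowers y), rfl⟩
  have hconj : ∀ y z : G, orderOf y = 3 → orderOf z = 3 → IsConj y z := fun y z hy hz => by
    obtain ⟨c, hc⟩ := htoP y hy
    obtain ⟨d, hd'⟩ := htoP z hz
    have e : ∀ {a w : G}, orderOf w = 3 → a * w * a⁻¹ ≠ 1 := fun {a w} hw h => by
      rw [conj_eq_one_iff] at h; rw [h, orderOf_one] at hw; omega
    exact (isConj_iff.2 ⟨c, rfl⟩ : IsConj y _).trans
      ((hconjP _ hc _ hd' (e hy) (e hz)).trans (isConj_iff.2 ⟨d, rfl⟩ : IsConj z _).symm)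
  -- constancy on the singular elements
  obtain ⟨y₀, hy₀P, -, hy₀⟩ := DefectOne.exists_gen (P := P) hP
  have hmem : ∀ χ, χ = χ₁ ∨ χ = χ₂ ∨ χ = θ → χ ∈ principalBlock M G := fun χ h => by
    rw [s.union]
    rcases h with rfl | rfl | rfl
    exacts [Or.inl hX1, Or.inl hX2, Or.inr hθY]
  have hconst : ∀ g : G, 3 ∣ orderOf g → ∀ χ, χ ∈ principalBlock M G → χ.1 g = χ.1 y₀ := by
    intro g hg χ hχ
    set ℓ := ordCompl[3] (Nat.card G)
    have hℓ : ¬ 3 ∣ ℓ := Nat.not_dvd_ordCompl Nat.prime_three Nat.card_pos.ne'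
    have hcard3 : Nat.card G = 3 * ℓ := by
      have h1 : 3 ^ (Nat.card G).factorization 3 = 3 := by
        rw [← Sylow.card_eq_multiplicity P]; exact hP
      calc Nat.card G = 3 ^ (Nat.card G).factorization 3 * ℓ :=
            (Nat.ordProj_mul_ordCompl_eq_self (Nat.card G) 3).symm
        _ = 3 * ℓ := by rw [h1]
    have he : (ℓ * ℓ) % 3 = 1 := by
      have : ℓ % 3 = 1 ∨ ℓ % 3 = 2 := by omega
      rcases this with h | h <;> rw [Nat.mul_mod, h] <;> rfl
    set y := g ^ (ℓ * ℓ) with hy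
    have hy3 : y ^ 3 = 1 := by
      rw [hy, ← pow_mul, show ℓ * ℓ * 3 = Nat.card G * ℓ by rw [hcard3]; ring, pow_mul,
        pow_card_eq_one', one_pow]
    have hpp : IsPPart 3 g y := by
      refine ⟨y⁻¹ * g, mul_inv_cancel_left _ _, ?_, ?_, fun h3 => ?_⟩
      · exact (Commute.refl y).inv_right.mul_right (hy ▸ (Commute.refl g).pow_left (ℓ * ℓ))
      · exact (Nat.dvd_prime_pow Nat.prime_three).1
          (show orderOf y ∣ 3 ^ 1 by rw [pow_one]; exact orderOf_dvd_of_pow_eq_one hy3) |>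
            fun ⟨i, _, hi⟩ => ⟨i, hi⟩
      · have h : (y⁻¹ * g) ^ (ℓ * ℓ) = 1 := by
          rw [(((Commute.refl g).pow_left (ℓ * ℓ)).inv_left : Commute y⁻¹ g).mul_pow, inv_pow,
            pow_eq_self_of_cube hy3 he, ← hy, inv_mul_cancel]
        have := h3.trans (orderOf_dvd_of_pow_eq_one h)
        exact hℓ ((Nat.Prime.dvd_mul Nat.prime_three).1 this |>.elim id id)
    have hy1 : y ≠ 1 := fun h => by
      have := hg.trans (orderOf_dvd_of_pow_eq_one h)
      exact hℓ ((Nat.Prime.dvd_mul Nat.prime_three).1 this |>.elim id id)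
    have hyo : orderOf y = 3 := orderOf_eq_prime hy3 hy1
    obtain ⟨c, hc⟩ := isConj_iff.1 (hconj y y₀ hyo hy₀)
    have h' := Blocks.IsPPart.conj hpp c
    rw [hc] at h'
    rw [← hd.apply_section hpM hχ h' hy₀P (fun h => by rw [h, orderOf_one] at hy₀; omega)]
    exact (Char.IsCharacter.isClassFunction (Char.irr_isCharacter χ) g c).symm
  -- assemble
  rcases htriv with ht | ht
  · obtain ⟨α, hα, hαne, hX'⟩ : ∃ α, α ∈ s.X ∧ α ≠ Char.trivialChar G ∧
        ∀ f : IrrCharacter G → ℂ, f χ₁ + f χ₂ = f (Char.trivialChar G) + f α := by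
      rw [hX, Finset.mem_insert, Finset.mem_singleton] at ht
      rcases ht with h | h
      · exact ⟨χ₂, hX2, fun e => h12 (h.symm.trans e.symm), fun f => by rw [h]⟩
      · exact ⟨χ₁, hX1, fun e => h12 (e.trans h), fun f => by rw [h, add_comm]⟩
    have hθne : θ ≠ Char.trivialChar G := fun e => Finset.disjoint_left.1 s.disj ht (e ▸ hθY)
    have hfun : ∀ g, (s.εX χ₁ : ℂ) * χ₁.1 g + (s.εX χ₂ : ℂ) * χ₂.1 g =
        (s.εX (Char.trivialChar G) : ℂ) + (s.εX α : ℂ) * α.1 g := fun g => by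
      rw [hX' fun χ => (s.εX χ : ℂ) * χ.1 g]
      show (s.εX (Char.trivialChar G) : ℂ) * 1 + _ = _
      rw [mul_one]
    refine ⟨α, θ, s.εX (Char.trivialChar G), s.εX α, -s.ε, (s.εX (Char.trivialChar G) : ℂ) +
      (s.εX α : ℂ) * α.1 y₀ + ((-s.ε : ℤ) : ℂ) * θ.1 y₀, ?_, hαne, hθne,
      fun e => Finset.disjoint_left.1 s.disj hα (e ▸ hθY), hX3 α hα, hY3, ?_,
      fun g hg => by rw [← hfun]; exact hrel g hg, fun g hg => ?_, hconj⟩
    · intro c hc
      simp only [List.mem_cons, List.not_mem_nil, or_false] at hc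
      rcases hc with rfl | rfl | rfl
      · exact s.hεX _ ht
      · exact s.hεX _ hα
      · rcases s.hε with e | e <;> rw [e] <;> decide
    · apply Int.cast_injective (α := ℂ)
      have := hrel 1 hreg1
      rw [hfun, ← Char.charDegree_cast, ← Char.charDegree_cast] at this
      push_cast at this ⊢
      linear_combination this
    · rw [hconst g hg α (by rw [s.union]; exact Or.inl hα), hconst g hg θ (hmem θ (by tauto))]
  · rw [hY, Finset.mem_singleton] at ht
    refine ⟨χ₁, χ₂, -s.ε, s.εX χ₁, s.εX χ₂, ((-s.ε : ℤ) : ℂ) + (s.εX χ₁ : ℂ) * χ₁.1 y₀ +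
      (s.εX χ₂ : ℂ) * χ₂.1 y₀, ?_, fun e => Finset.disjoint_left.1 s.disj hX1 (e ▸ ht ▸ hθY),
      fun e => Finset.disjoint_left.1 s.disj hX2 (e ▸ ht ▸ hθY), h12, hX3 _ hX1, hX3 _ hX2, ?_,
      fun g hg => ?_, fun g hg => ?_, hconj⟩
    · intro c hc
      simp only [List.mem_cons, List.not_mem_nil, or_false] at hc
      rcases hc with rfl | rfl | rfl
      · rcases s.hε with e | e <;> rw [e] <;> decide
      · exact s.hεX _ hX1
      · exact s.hεX _ hX2
    · apply Int.cast_injective (α := ℂ)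
      have := hrel 1 hreg1
      rw [← ht, show (Char.trivialChar G).1 1 = 1 from rfl, ← Char.charDegree_cast,
        ← Char.charDegree_cast] at this
      push_cast at this ⊢
      linear_combination this
    · have := hrel g hg
      rw [← ht, show (Char.trivialChar G).1 g = 1 from rfl] at this
      linear_combination this
    · rw [hconst g hg χ₁ (hmem χ₁ (Or.inl rfl)), hconst g hg χ₂ (hmem χ₂ (Or.inr (Or.inl rfl)))]

theorem degrees_of_block {r b A B : ℕ} (hr : r.Prime) (hr2 : r ≠ 2) (hr3 : r ≠ 3) {c₀ cA cB : ℤ}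
    (h0 : c₀ = 1 ∨ c₀ = -1) (hA : cA = 1 ∨ cA = -1) (hB : cB = 1 ∨ cB = -1)
    (hrel : c₀ + cA * (A : ℤ) + cB * (B : ℤ) = 0) (hA1 : 1 < A) (hB1 : 1 < B)
    (hAd : A ∣ 3 * 2 ^ b * r ^ 2) (hBd : B ∣ 3 * 2 ^ b * r ^ 2)
    (hA3 : ¬ 3 ∣ A) (hB3 : ¬ 3 ∣ B) (hAodd : Odd A) : A = r ∧ ¬ r ∣ B := by
  have hAr : A ∣ r ^ 2 := ((Nat.Prime.coprime_iff_not_dvd Nat.prime_three).2 hA3).symm
    |>.mul_right ((Nat.coprime_two_right.2 hAodd).pow_right b) |>.dvd_of_dvd_mul_left hAd
  have hBA : B = A + 1 ∨ A = B + 1 := by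
    rcases h0 with rfl | rfl <;> rcases hA with rfl | rfl <;> rcases hB with rfl | rfl <;> omega
  obtain ⟨i, hi, rfl⟩ := (Nat.dvd_prime_pow hr).1 hAr
  have hi0 : i ≠ 0 := fun h => by rw [h, pow_zero] at hA1; omega
  have hrB : ¬ r ∣ B := fun h => by
    have hrA : r ∣ r ^ i := dvd_pow_self r hi0
    rcases hBA with e | e
    · exact hr.not_dvd_one ((Nat.dvd_add_right hrA).1 (e ▸ h))
    · exact hr.not_dvd_one ((Nat.dvd_add_right h).1 (e ▸ hrA))
  refine ⟨?_, hrB⟩
  rcases (show i = 1 ∨ i = 2 by omega) with rfl | rfl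
  · rw [pow_one]
  exfalso
  have hB2 : B ∣ 2 ^ b := by
    have h1 : Nat.Coprime B (r ^ 2) := ((hr.coprime_iff_not_dvd.2 hrB).symm).pow_right 2
    exact ((Nat.Prime.coprime_iff_not_dvd Nat.prime_three).2 hB3).symm.dvd_of_dvd_mul_left
      (h1.dvd_of_dvd_mul_right hBd)
  obtain ⟨e, -, rfl⟩ := (Nat.dvd_prime_pow Nat.prime_two).1 hB2
  have hodd : Odd r := hr.odd_of_ne_two hr2
  obtain ⟨k, rfl⟩ := hodd
  have hk : 2 ≤ k := by have := hr.two_le; omega
  rcases e with _ | _ | e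
  · simp at hB1
  · rcases hBA with h | h <;> simp only [zero_add, pow_one] at h <;> nlinarith
  rcases hBA with h | h
  · -- `r ^ 2 + 1` is twice an odd number
    have e1 : (2 * k + 1) ^ 2 + 1 = 4 * (k * k + k) + 2 := by ring
    have e2 : (2 : ℕ) ^ (e + 1 + 1) = 4 * 2 ^ e := by ring
    omega
  · -- `(r - 1) (r + 1)` is a power of two
    have h4 : 4 * (k * (k + 1)) = 4 * 2 ^ e := by
      have : (2 : ℕ) ^ (e + 1 + 1) = 4 * 2 ^ e := by ring
      nlinarith
    have h4' : k * (k + 1) = 2 ^ e := by omega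
    obtain ⟨u, -, hu⟩ := (Nat.dvd_prime_pow Nat.prime_two).1 (⟨k + 1, h4'.symm⟩ : k ∣ 2 ^ e)
    obtain ⟨v, -, hv⟩ := (Nat.dvd_prime_pow Nat.prime_two).1
      (⟨k, by rw [← h4', mul_comm]⟩ : k + 1 ∣ 2 ^ e)
    rcases u with _ | u
    · simp at hu; omega
    rcases v with _ | v
    · simp at hv; omega
    rw [pow_succ] at hu hv
    omega

/-- No simple group has order `3 · 2^b · r²`. -/
theorem card_ne_of_square [IsSimpleGroup G] (hG : ¬ IsMulCommutative G) {r b : ℕ} (hr : r.Prime)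
    (hr2 : r ≠ 2) (hr3 : r ≠ 3) (hb : b ≠ 0) : Nat.card G ≠ 3 * 2 ^ b * r ^ 2 := by
  intro hcard
  haveI : Fact (Nat.Prime 3) := ⟨Nat.prime_three⟩
  haveI : Fact r.Prime := ⟨hr⟩
  set ℓ := 2 ^ b * r ^ 2 with hℓdef
  have hcard' : Nat.card G = 3 * ℓ := by rw [hcard, mul_assoc]
  have hℓ : ¬ 3 ∣ ℓ := fun h => by
    rcases Nat.prime_three.dvd_mul.1 h with h | h
    · have := (Nat.prime_dvd_prime_iff_eq Nat.prime_three Nat.prime_two).1 (Nat.prime_three.dvd_of_dvd_pow h)
      omega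
    · exact hr3 ((Nat.prime_dvd_prime_iff_eq Nat.prime_three hr).1 (Nat.prime_three.dvd_of_dvd_pow h)).symm
  obtain ⟨P⟩ : Nonempty (Sylow 3 G) := inferInstance
  have hP : Nat.card P = 3 := by
    simpa using SmallSimple.card_sylow_eq_pow P 1 ℓ (by rw [pow_one, hcard']) hℓ
  obtain ⟨α₀, β₀, c₀, cα₀, cβ₀, C, hsigns, hα₀, hβ₀, hαβ, hα3₀, hβ3₀, hdegrel, hreg, hsing, hconj⟩ :=
    exists_block_three hG P hP ⟨ℓ, hcard'⟩
  have hc0 : c₀ = 1 ∨ c₀ = -1 := hsigns c₀ (by simp)
  -- put the odd degree first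
  obtain ⟨α, β, cα, cβ, hα, hβ, hne, hcA, hcB, hfun, hA, hrB⟩ : ∃ (α β : IrrCharacter G) (cα cβ : ℤ),
      α ≠ Char.trivialChar G ∧ β ≠ Char.trivialChar G ∧ α ≠ β ∧ (cα = 1 ∨ cα = -1) ∧
      (cβ = 1 ∨ cβ = -1) ∧
      (∀ g, (cα₀ : ℂ) * α₀.1 g + cβ₀ * β₀.1 g = cα * α.1 g + cβ * β.1 g) ∧
      charDegree α.1 = r ∧ ¬ r ∣ charDegree β.1 := by
    have hd : ∀ χ : IrrCharacter G, charDegree χ.1 ∣ 3 * 2 ^ b * r ^ 2 := fun χ =>
      hcard ▸ Char.charDegree_dvd_card χ
    have hA := hsigns cα₀ (by simp)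
    have hB := hsigns cβ₀ (by simp)
    have h1 := one_lt_degree hG hα₀
    have h2 := one_lt_degree hG hβ₀
    by_cases ho : Odd (charDegree α₀.1)
    · obtain ⟨e1, e2⟩ := degrees_of_block hr hr2 hr3 hc0 hA hB hdegrel h1 h2 (hd _) (hd _) hα3₀ hβ3₀ ho
      exact ⟨α₀, β₀, cα₀, cβ₀, hα₀, hβ₀, hαβ, hA, hB, fun g => rfl, e1, e2⟩
    · have ho' : Odd (charDegree β₀.1) := by
        rw [Nat.not_odd_iff_even] at ho
        obtain ⟨k, hk⟩ := ho
        rcases hc0 with e0 | e0 <;> rcases hA with e1 | e1 <;> rcases hB with e2 | e2 <;>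
          rw [e0, e1, e2] at hdegrel <;> rw [Nat.odd_iff] <;> omega
      obtain ⟨e1, e2⟩ := degrees_of_block hr hr2 hr3 hc0 hB hA (by linear_combination hdegrel) h2 h1
        (hd _) (hd _) hβ3₀ hα3₀ ho'
      exact ⟨β₀, α₀, cβ₀, cα₀, hβ₀, hα₀, hαβ.symm, hB, hA, fun g => add_comm _ _, e1, e2⟩
  set Θ : G → ℂ := fun g => (c₀ : ℂ) + cα * α.1 g + cβ * β.1 g with hΘ
  have hΘeq : ∀ g, Θ g = (c₀ : ℂ) + cα₀ * α₀.1 g + cβ₀ * β₀.1 g := fun g => by
    simp only [hΘ]; linear_combination -(hfun g)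
  have hΘreg : ∀ g, ¬ 3 ∣ orderOf g → Θ g = 0 := fun g hg => (hΘeq g).trans (hreg g hg)
  have hΘsing : ∀ g, 3 ∣ orderOf g → Θ g = C := fun g hg => (hΘeq g).trans (hsing g hg)
  -- an involution
  haveI : Fact (Nat.Prime 2) := ⟨Nat.prime_two⟩
  obtain ⟨t, ht⟩ := exists_prime_orderOf_dvd_card' (G := G) 2
    (hcard ▸ ((dvd_pow_self 2 hb).mul_left 3).mul_right _)
  -- the three-part
  set e := ℓ * ℓ with hedef
  have he3 : e % 3 = 1 := by
    have : ℓ % 3 = 1 ∨ ℓ % 3 = 2 := by omega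
    rcases this with h | h <;> rw [hedef, Nat.mul_mod, h]
  have hcube : ∀ g : G, (g ^ e) ^ 3 = 1 := fun g => by
    rw [← pow_mul, show e * 3 = Nat.card G * ℓ by rw [hcard', hedef]; ring, pow_mul, pow_card_eq_one',
      one_pow]
  have hsingIff : ∀ g : G, 3 ∣ orderOf g ↔ orderOf (g ^ e) = 3 := fun g => by
    constructor
    · intro h
      refine orderOf_eq_prime (hcube g) fun h1 => ?_
      have := h.trans (orderOf_dvd_of_pow_eq_one h1)
      exact hℓ ((Nat.Prime.dvd_mul Nat.prime_three).1 this |>.elim id id)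
    · intro h
      exact h ▸ orderOf_pow_dvd e
  have hsyl : ∀ H : Subgroup G, IsPGroup 3 H → Nat.card H ≤ 3 := fun H hH => by
    obtain ⟨Q, hQ⟩ := hH.exists_le_sylow
    calc Nat.card H ≤ Nat.card (Q : Subgroup G) :=
          Nat.le_of_dvd Nat.card_pos (Subgroup.card_dvd_of_le hQ)
      _ = 3 := by simpa using SmallSimple.card_sylow_eq_pow Q 1 ℓ (by rw [pow_one, hcard']) hℓ
  set T : G → G := fun a => a * t * a⁻¹ with hT
  have hTT : ∀ a, (T a)⁻¹ = T a := fun a => by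
    have htt : t⁻¹ = t := inv_eq_of_mul_eq_one_right (by rw [← pow_two, ← ht, pow_orderOf_eq_one])
    simp only [hT]
    conv_rhs => rw [← htt]
    group
  have hTconj : ∀ c a, T (c * a) = c * T a * c⁻¹ := fun c a => by simp only [hT]; group
  set O₃ := Finset.univ.filter fun y : G => orderOf y = 3
  set fib : G → Finset G := fun y => Finset.univ.filter fun g => g ^ e = y
  set pf : G → Finset (G × G) := fun y => Finset.univ.filter fun ab => (T ab.1 * T ab.2) ^ e = y
  set Ai : G → Finset G := fun y => Finset.univ.filter fun a => T a * y * (T a)⁻¹ = y⁻¹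
  obtain ⟨y₁, hy₁⟩ := exists_prime_orderOf_dvd_card' (G := G) 3 ⟨ℓ, hcard'⟩
  have hfibc : ∀ y ∈ O₃, (fib y).card = (fib y₁).card ∧ (pf y).card = (pf y₁).card := by
    intro y hy
    obtain ⟨c, hc⟩ := isConj_iff.1 (hconj y y₁ (Finset.mem_filter.1 hy).2 hy₁)
    constructor
    · refine Finset.card_equiv (MulAut.conj c).toEquiv fun g => ?_
      simp only [fib, Finset.mem_filter, Finset.mem_univ, true_and, MulEquiv.toEquiv_eq_coe,
        MulEquiv.coe_toEquiv, MulAut.conj_apply, conj_pow, ← hc]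
      simp
    · refine Finset.card_equiv ((Equiv.mulLeft c).prodCongr (Equiv.mulLeft c)) fun ab => ?_
      simp only [pf, Finset.mem_filter, Finset.mem_univ, true_and, Equiv.prodCongr_apply,
        Prod.map_fst, Prod.map_snd, Equiv.coe_mulLeft, hTconj, ← hc]
      rw [show c * T ab.1 * c⁻¹ * (c * T ab.2 * c⁻¹) = c * (T ab.1 * T ab.2) * c⁻¹ by group,
        conj_pow]
      simp
  set K := (fib y₁).card
  set Pp := (pf y₁).card
  have hy13 : y₁ ^ 3 = 1 := by rw [← hy₁, pow_orderOf_eq_one]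
  have hshift : ∀ {c : G}, Commute y₁ c → ∀ i : ℕ, (c * y₁ ^ i) ^ e = c ^ e * y₁ ^ i := fun {c} h i => by
    rw [(h.symm.pow_right i).mul_pow, show (y₁ ^ i) ^ e = (y₁ ^ e) ^ i by
      rw [← pow_mul y₁, ← pow_mul y₁, mul_comm i], pow_eq_self_of_cube hy13 he3]
  have hfin : ∀ {c : G}, Commute y₁ c → ∃ i : Fin 3, c ^ e = y₁ ^ (i : ℕ) := fun {c} h =>
    exists_pow_of_cube hsyl hy₁ (hcube c) (h.pow_right e)
  have hadd : ∀ i j k : ℕ, (i + j) % 3 = k % 3 → y₁ ^ i * y₁ ^ j = y₁ ^ k := fun i j k h => by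
    rw [← pow_add, pow_eq_pow_iff_modEq, hy₁]; exact h
  -- centraliser
  have hK : Nat.card (Subgroup.centralizer ({y₁} : Set G)) = 3 * K := by
    have hcm : ∀ g ∈ fib y₁, Commute y₁ g := fun g hg => by
      rw [← (Finset.mem_filter.1 hg).2]; exact (Commute.refl g).pow_left e
    rw [mul_comm, ← Fintype.card_fin 3, ← Finset.card_univ, ← Finset.card_product,
      Nat.card_eq_fintype_card, Fintype.card_subtype]
    symm
    refine Finset.card_bij (fun x _ => x.1 * y₁ ^ (x.2 : ℕ)) (fun x hx => ?_) (fun x hx x' hx' h => ?_)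
      fun c hc => ?_
    · refine Finset.mem_filter.2 ⟨Finset.mem_univ _, Subgroup.mem_centralizer_singleton_iff.2 ?_⟩
      exact ((hcm _ (Finset.mem_product.1 hx).1).mul_right ((Commute.refl y₁).pow_right _)).symm.eq
    · obtain ⟨g, i⟩ := x
      obtain ⟨g', i'⟩ := x'
      have hg := (Finset.mem_product.1 hx).1
      have hg' := (Finset.mem_product.1 hx').1
      have h' := congrArg (· ^ e) h
      simp only [hshift (hcm _ hg), hshift (hcm _ hg')] at h'
      rw [(Finset.mem_filter.1 hg).2, (Finset.mem_filter.1 hg').2] at h'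
      obtain rfl : i = i' := (pow_eq_pow_iff_fin hy₁).1 (mul_left_cancel h')
      exact Prod.ext (mul_right_cancel h) rfl
    · have hc' : Commute y₁ c :=
        (Subgroup.mem_centralizer_singleton_iff.1 (Finset.mem_filter.1 hc).2).symm
      obtain ⟨i, hi⟩ := hfin hc'
      refine ⟨(c * y₁ ^ ((4 - (i : ℕ)) % 3), ⟨((i : ℕ) + 2) % 3, Nat.mod_lt _ (by norm_num)⟩),
        Finset.mem_product.2 ⟨Finset.mem_filter.2 ⟨Finset.mem_univ _, ?_⟩, Finset.mem_univ _⟩, ?_⟩
      · rw [hshift hc', hi, hadd _ _ 1 (by omega), pow_one]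
      · show c * y₁ ^ _ * y₁ ^ _ = c
        rw [mul_assoc, hadd _ _ 0 (by dsimp only; omega), pow_zero, mul_one]
  have hTinv : ∀ a b, (T a * T b)⁻¹ = T b * T a := fun a b => by
    rw [mul_inv_rev (T a) (T b), hTT, hTT]
  -- pairs
  have hPA : 3 * Pp = (Ai y₁).card * (Ai y₁).card := by
    have hinvmem : ∀ {a g : G}, T a * g * (T a)⁻¹ = g⁻¹ → T a * g ^ e * (T a)⁻¹ = (g ^ e)⁻¹ :=
      fun {a g} h => by rw [← conj_pow, h, inv_pow]
    have hmem : ∀ ab ∈ pf y₁, ab.1 ∈ Ai y₁ ∧ ab.2 ∈ Ai y₁ := fun ab hab => by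
      have hy := (Finset.mem_filter.1 hab).2
      constructor <;> refine Finset.mem_filter.2 ⟨Finset.mem_univ _, ?_⟩ <;> rw [← hy] <;>
        apply hinvmem
      · rw [hTT, hTinv]
        have := hTT ab.1
        calc T ab.1 * (T ab.1 * T ab.2) * T ab.1 = (T ab.1 * T ab.1) * (T ab.2 * T ab.1) := by group
          _ = T ab.2 * T ab.1 := by rw [show T ab.1 * T ab.1 = 1 by
              nth_rewrite 2 [← this]; exact mul_inv_cancel _, one_mul]
      · rw [hTT, hTinv]
        have := hTT ab.2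
        calc T ab.2 * (T ab.1 * T ab.2) * T ab.2 = (T ab.2 * T ab.1) * (T ab.2 * T ab.2) := by group
          _ = T ab.2 * T ab.1 := by rw [show T ab.2 * T ab.2 = 1 by
              nth_rewrite 2 [← this]; exact mul_inv_cancel _, mul_one]
    have hcomm : ∀ {a b : G}, a ∈ Ai y₁ → b ∈ Ai y₁ → Commute y₁ (T a * T b) := fun {a b} ha hb => by
      have ha := (Finset.mem_filter.1 ha).2
      have hb := (Finset.mem_filter.1 hb).2
      have h : T a * T b * y₁ * (T a * T b)⁻¹ = y₁ := by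
        calc _ = T a * (T b * y₁ * (T b)⁻¹) * (T a)⁻¹ := by group
          _ = (T a * y₁ * (T a)⁻¹)⁻¹ := by rw [hb]; group
          _ = y₁ := by rw [ha, inv_inv]
      exact (mul_inv_eq_iff_eq_mul.1 h).symm
    have hAiP : ∀ {b : G}, b ∈ Ai y₁ → ∀ i : ℕ, y₁ ^ i * b ∈ Ai y₁ := fun {b} hb i => by
      refine Finset.mem_filter.2 ⟨Finset.mem_univ _, ?_⟩
      have hb := (Finset.mem_filter.1 hb).2
      rw [hTconj]
      calc y₁ ^ i * T b * (y₁ ^ i)⁻¹ * y₁ * (y₁ ^ i * T b * (y₁ ^ i)⁻¹)⁻¹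
          = y₁ ^ i * T b * ((y₁ ^ i)⁻¹ * y₁ * y₁ ^ i) * (T b)⁻¹ * (y₁ ^ i)⁻¹ := by group
        _ = y₁ ^ i * (T b * y₁ * (T b)⁻¹) * (y₁ ^ i)⁻¹ := by
            rw [show (y₁ ^ i)⁻¹ * y₁ * y₁ ^ i = y₁ by
              rw [mul_assoc, ← (Commute.pow_self y₁ i).eq, inv_mul_cancel_left]]
            group
        _ = y₁⁻¹ := by
            rw [hb, ((Commute.refl y₁).pow_left i).inv_right.eq, mul_assoc, mul_inv_cancel, mul_one]
    have hTshift : ∀ {a b : G}, a ∈ Ai y₁ → b ∈ Ai y₁ → ∀ i : ℕ,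
        T a * T (y₁ ^ i * b) = T a * T b * y₁ ^ i := fun {a b} ha hb i => by
      have hc := (hcomm ha hb).pow_left i
      have hb' : (y₁ ^ i)⁻¹ = T b * y₁ ^ i * (T b)⁻¹ := by
        rw [← conj_pow, (Finset.mem_filter.1 hb).2, inv_pow]
      have ha' : T a * y₁ ^ i = (y₁ ^ i)⁻¹ * T a := by
        rw [← mul_inv_eq_iff_eq_mul.1 (show T a * y₁ ^ i * (T a)⁻¹ = (y₁ ^ i)⁻¹ by
          rw [← conj_pow, (Finset.mem_filter.1 ha).2, inv_pow])]
      have h2 : y₁ ^ i * (y₁ ^ i * y₁ ^ i) = 1 := by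
        rw [← pow_add, ← pow_add, show i + (i + i) = 3 * i by ring, pow_mul, hy13, one_pow]
      calc T a * T (y₁ ^ i * b) = T a * y₁ ^ i * T b * (y₁ ^ i)⁻¹ := by rw [hTconj]; group
        _ = (y₁ ^ i)⁻¹ * (T a * T b) * (y₁ ^ i)⁻¹ := by rw [ha']; group
        _ = T a * T b * ((y₁ ^ i)⁻¹ * (y₁ ^ i)⁻¹) := by
            rw [(hc.inv_left).eq]; group
        _ = T a * T b * y₁ ^ i := by
            rw [← mul_inv_rev, inv_eq_of_mul_eq_one_left h2]
    rw [mul_comm 3, ← Fintype.card_fin 3, ← Finset.card_univ, ← Finset.card_product,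
      ← Finset.card_product]
    refine Finset.card_bij (fun x _ => (x.1.1, y₁ ^ (x.2 : ℕ) * x.1.2)) (fun x hx => ?_)
      (fun x hx x' hx' h => ?_) fun ab hab => ?_
    · obtain ⟨ha, hb⟩ := hmem _ (Finset.mem_product.1 hx).1
      exact Finset.mem_product.2 ⟨ha, hAiP hb _⟩
    · obtain ⟨⟨a, b⟩, i⟩ := x
      obtain ⟨⟨a', b'⟩, i'⟩ := x'
      obtain ⟨ha, hb⟩ := hmem _ (Finset.mem_product.1 hx).1
      obtain ⟨ha', hb'⟩ := hmem _ (Finset.mem_product.1 hx').1
      obtain ⟨h1, h2⟩ := Prod.ext_iff.1 h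
      dsimp only at h1 h2 ha hb ha' hb'
      subst h1
      have h3 := congrArg (fun z => (T a * T z) ^ e) h2
      simp only [hTshift ha hb, hTshift ha' hb', hshift (hcomm ha hb), hshift (hcomm ha' hb')] at h3
      rw [(Finset.mem_filter.1 (Finset.mem_product.1 hx).1).2,
        (Finset.mem_filter.1 (Finset.mem_product.1 hx').1).2] at h3
      obtain rfl : i = i' := (pow_eq_pow_iff_fin hy₁).1 (mul_left_cancel h3)
      exact Prod.ext (Prod.ext rfl (mul_left_cancel h2)) rfl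
    · obtain ⟨ha, hb⟩ := Finset.mem_product.1 hab
      obtain ⟨i, hi⟩ := hfin (hcomm ha hb)
      refine ⟨((ab.1, y₁ ^ ((4 - (i : ℕ)) % 3) * ab.2), ⟨((i : ℕ) + 2) % 3, Nat.mod_lt _ (by norm_num)⟩),
        Finset.mem_product.2 ⟨Finset.mem_filter.2 ⟨Finset.mem_univ _, ?_⟩, Finset.mem_univ _⟩, ?_⟩
      · rw [hTshift ha hb, hshift (hcomm ha hb), hi, hadd _ _ 1 (by omega), pow_one]
      · refine Prod.ext rfl ?_
        show y₁ ^ _ * (y₁ ^ _ * ab.2) = ab.2
        rw [← mul_assoc, hadd _ _ 0 (by dsimp only; omega), pow_zero, one_mul]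
  -- the sums over singular elements
  set sing := Finset.univ.filter fun g : G => 3 ∣ orderOf g
  set psing := Finset.univ.filter fun ab : G × G => 3 ∣ orderOf (T ab.1 * T ab.2)
  have hcs : sing.card = O₃.card * K := by
    rw [Finset.card_eq_sum_card_fiberwise (f := fun g => g ^ e) (t := O₃)
      (fun g hg => Finset.mem_filter.2 ⟨Finset.mem_univ _, (hsingIff g).1 (Finset.mem_filter.1 hg).2⟩),
      Finset.sum_congr rfl fun y hy => ?_, Finset.sum_const, smul_eq_mul]
    rw [← (hfibc y hy).1, Finset.filter_filter]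
    congr 1
    ext g
    simp only [fib, Finset.mem_filter, Finset.mem_univ, true_and, and_iff_right_iff_imp]
    exact fun h => (hsingIff g).2 (h ▸ (Finset.mem_filter.1 hy).2)
  have hcp : psing.card = O₃.card * Pp := by
    rw [Finset.card_eq_sum_card_fiberwise (f := fun ab : G × G => (T ab.1 * T ab.2) ^ e) (t := O₃)
      (fun g hg => Finset.mem_filter.2 ⟨Finset.mem_univ _, (hsingIff _).1 (Finset.mem_filter.1 hg).2⟩),
      Finset.sum_congr rfl fun y hy => ?_, Finset.sum_const, smul_eq_mul]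
    rw [← (hfibc y hy).2, Finset.filter_filter]
    congr 1
    ext g
    simp only [pf, Finset.mem_filter, Finset.mem_univ, true_and, and_iff_right_iff_imp]
    exact fun h => (hsingIff _).2 (h ▸ (Finset.mem_filter.1 hy).2)
  -- orthogonality
  have horth : ∀ χ : IrrCharacter G, ∑ g : G, Θ g * χ.1 g⁻¹ = (Nat.card G : ℂ) *
      ((c₀ : ℂ) * (if χ = Char.trivialChar G then 1 else 0) + cα * (if χ = α then 1 else 0) +
        cβ * (if χ = β then 1 else 0)) := by
    intro χ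
    have h1 : ∀ ψ : IrrCharacter G, ∑ g : G, ψ.1 g * χ.1 g⁻¹ =
        (Nat.card G : ℂ) * (if χ = ψ then 1 else 0) := fun ψ => by
      have hc : (Nat.card G : ℂ) ≠ 0 := Nat.cast_ne_zero.2 Nat.card_pos.ne'
      have h2 : classInner ψ.1 χ.1 = if χ = ψ then 1 else 0 := by
        by_cases h : χ = ψ
        · rw [h, if_pos rfl, Char.classInner_irr_self ψ.2]
        · rw [if_neg h, Char.classInner_irr_of_ne ψ.2 χ.2 fun h' => h (Subtype.ext h').symm]
      rw [← h2, classInner, ← mul_assoc, mul_inv_cancel₀ hc, one_mul]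
      exact Finset.sum_congr rfl fun g _ => by
        rw [Char.IsCharacter.conj_apply (Char.irr_isCharacter χ)]
    have h0 := h1 (Char.trivialChar G)
    simp only [show ∀ g, (Char.trivialChar G).1 g = 1 from fun _ => rfl, one_mul] at h0
    calc ∑ g : G, Θ g * χ.1 g⁻¹ = (c₀ : ℂ) * (∑ g : G, χ.1 g⁻¹) +
          cα * (∑ g : G, α.1 g * χ.1 g⁻¹) + cβ * (∑ g : G, β.1 g * χ.1 g⁻¹) := by
          simp only [hΘ, Finset.mul_sum, ← Finset.sum_add_distrib]
          exact Finset.sum_congr rfl fun g _ => by ring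
      _ = _ := by rw [h0, h1, h1]; ring
  have hΘsum : C * sing.card = (c₀ : ℂ) * Nat.card G := by
    have h := horth (Char.trivialChar G)
    rw [if_pos rfl, if_neg hα.symm, if_neg hβ.symm] at h
    simp only [show ∀ g, (Char.trivialChar G).1 g = 1 from fun _ => rfl, mul_one] at h
    rw [← Finset.sum_filter_of_ne (p := fun g : G => 3 ∣ orderOf g) (fun g _ hg => by
        by_contra h'; exact hg (hΘreg g h')),
      Finset.sum_congr rfl fun g hg => hΘsing g (Finset.mem_filter.1 hg).2, Finset.sum_const,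
      nsmul_eq_mul] at h
    rw [mul_comm C]
    linear_combination h
  obtain ⟨u, hu⟩ := DefectOne.exists_int_apply ht α
  obtain ⟨v, hv⟩ := DefectOne.exists_int_apply ht β
  set B := charDegree β.1
  have hB0 : (B : ℂ) ≠ 0 := Nat.cast_ne_zero.2 (Char.charDegree_pos β).ne'
  have hr0 : (r : ℂ) ≠ 0 := Nat.cast_ne_zero.2 hr.ne_zero
  set S : ℂ := (c₀ : ℂ) + cα * (u : ℂ) ^ 2 / r + cβ * (v : ℂ) ^ 2 / B with hS
  have hpairs : C * psing.card = (Nat.card G : ℂ) ^ 2 * S := by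
    have hF : ∀ g : G, ((Finset.univ.filter fun ab : G × G => T ab.1 * T ab.2 = g).card : ℂ) =
        (Nat.card G : ℂ) * ∑ χ : IrrCharacter G, χ.1 t * χ.1 t * χ.1 g⁻¹ / χ.1 1 := fun g => by
      rw [← Char.card_conj_mul_conj_eq t t g, Nat.card_eq_fintype_card, Fintype.card_subtype]
    have h1 : ∑ g : G, ((Finset.univ.filter fun ab : G × G => T ab.1 * T ab.2 = g).card : ℂ) * Θ g =
        C * psing.card := by
      have : ∀ g : G, ((Finset.univ.filter fun ab : G × G => T ab.1 * T ab.2 = g).card : ℂ) * Θ g =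
          ∑ ab ∈ Finset.univ.filter (fun ab : G × G => T ab.1 * T ab.2 = g), Θ (T ab.1 * T ab.2) :=
        fun g => by
          rw [Finset.sum_congr rfl fun ab hab => by rw [(Finset.mem_filter.1 hab).2],
            Finset.sum_const, nsmul_eq_mul]
      rw [Finset.sum_congr rfl fun g _ => this g,
        Finset.sum_fiberwise Finset.univ (fun ab : G × G => T ab.1 * T ab.2) fun ab => Θ (T ab.1 * T ab.2),
        ← Finset.sum_filter_of_ne (p := fun ab : G × G => 3 ∣ orderOf (T ab.1 * T ab.2))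
          (fun g _ hg => by by_contra h'; exact hg (hΘreg _ h')),
        Finset.sum_congr rfl fun g hg => hΘsing _ (Finset.mem_filter.1 hg).2, Finset.sum_const,
        nsmul_eq_mul, mul_comm]
    rw [← h1]
    simp only [hF, Finset.mul_sum, Finset.sum_mul]
    rw [Finset.sum_comm, Finset.sum_congr rfl fun χ _ => show
      ∑ g : G, (Nat.card G : ℂ) * (χ.1 t * χ.1 t * χ.1 g⁻¹ / χ.1 1) * Θ g =
        (Nat.card G : ℂ) * (χ.1 t * χ.1 t / χ.1 1) * ∑ g : G, Θ g * χ.1 g⁻¹ by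
      rw [Finset.mul_sum]; exact Finset.sum_congr rfl fun g _ => by ring]
    simp only [horth, mul_add, Finset.sum_add_distrib, mul_ite, mul_one, mul_zero,
      Finset.sum_ite_eq', Finset.mem_univ, if_true]
    rw [show (Char.trivialChar G).1 t = 1 from rfl, show (Char.trivialChar G).1 1 = 1 from rfl,
      hu, hv, ← Char.charDegree_cast, ← Char.charDegree_cast, hA, hS]
    ring
  -- the identity
  have hkey : (((Ai y₁).card * (Ai y₁).card : ℕ) : ℤ) * (c₀ * r * B) =
      3 * K * (Nat.card G : ℤ) * (c₀ * r * B + cα * u ^ 2 * B + cβ * v ^ 2 * r) := by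
    have hn0 : (O₃.card : ℂ) ≠ 0 := Nat.cast_ne_zero.2 (Finset.card_ne_zero.2
      ⟨y₁, Finset.mem_filter.2 ⟨Finset.mem_univ _, hy₁⟩⟩)
    have hG0 : (Nat.card G : ℂ) ≠ 0 := Nat.cast_ne_zero.2 Nat.card_pos.ne'
    rw [hcs] at hΘsum
    rw [hcp] at hpairs
    push_cast at hΘsum hpairs
    have h1 : (Pp : ℂ) * c₀ = K * Nat.card G * S := by
      apply mul_left_cancel₀ (mul_ne_zero hn0 hG0)
      linear_combination ((O₃.card : ℂ) * K) * hpairs - ((O₃.card : ℂ) * Pp) * hΘsum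
    have h2 : (3 * Pp : ℂ) = ((Ai y₁).card : ℂ) * (Ai y₁).card := by exact_mod_cast hPA
    apply Int.cast_injective (α := ℂ)
    push_cast
    rw [← h2]
    rw [hS] at h1
    field_simp at h1
    linear_combination 3 * h1
  -- valuations
  have hKr : ¬ r ∣ K := by
    intro hrK
    obtain ⟨z, hz⟩ := exists_prime_orderOf_dvd_card' (G := Subgroup.centralizer ({y₁} : Set G)) r
      (hK ▸ hrK.mul_left 3)
    have hzo : orderOf (z : G) = r := by rw [Subgroup.orderOf_coe]; exact hz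
    obtain ⟨R, hR⟩ := IsPGroup.exists_le_sylow
      (IsPGroup.of_card (p := r) (n := 1) (by rw [Nat.card_zpowers, hzo, pow_one]) :
        IsPGroup r (Subgroup.zpowers (z : G)))
    have hRc : Nat.card (R : Subgroup G) = r ^ 2 := by
      refine SmallSimple.card_sylow_eq_pow R 2 (3 * 2 ^ b) (by rw [hcard]; ring) fun h => ?_
      rcases hr.dvd_mul.1 h with h | h
      · exact hr3 ((Nat.prime_dvd_prime_iff_eq hr Nat.prime_three).1 h)
      · exact hr2 ((Nat.prime_dvd_prime_iff_eq hr Nat.prime_two).1 (hr.dvd_of_dvd_pow h))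
    have hRab := IsPGroup.commutative_of_card_eq_prime_sq (G := (R : Subgroup G)) hRc
    set Z := Subgroup.centralizer ({(z : G)} : Set G)
    have hRZ : (R : Subgroup G) ≤ Z := fun w hw => Subgroup.mem_centralizer_singleton_iff.2
      (congrArg Subtype.val (hRab ⟨w, hw⟩ ⟨z, hR (Subgroup.mem_zpowers _)⟩))
    have hyZ : y₁ ∈ Z := Subgroup.mem_centralizer_singleton_iff.2
      (Subgroup.mem_centralizer_singleton_iff.1 z.2).symm
    have hdvd : 3 * r ^ 2 ∣ Nat.card Z := Nat.Coprime.mul_dvd_of_dvd_of_dvd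
      (((Nat.coprime_primes Nat.prime_three hr).2 hr3.symm).pow_right 2)
      (by rw [← hy₁]; exact Subgroup.orderOf_dvd_natCard _ hyZ)
      (hRc ▸ Subgroup.card_dvd_of_le hRZ)
    obtain ⟨d, hd⟩ := hdvd
    have hmul := Subgroup.card_mul_index Z
    rw [hd, hcard] at hmul
    have hd' : d * Z.index = 2 ^ b := Nat.eq_of_mul_eq_mul_left
      (show 0 < 3 * r ^ 2 by have := hr.pos; positivity) (by rw [← mul_assoc, hmul]; ring)
    obtain ⟨k, -, hk⟩ := (Nat.dvd_prime_pow Nat.prime_two).1 (⟨d, by rw [← hd', mul_comm]⟩ : Z.index ∣ 2 ^ b)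
    exact not_prime_card hG (CharInt.card_prime_of_class_prime_pow Nat.prime_two
      (fun h => by rw [h, orderOf_one] at hzo; exact hr.one_lt.ne hzo) hk)
  have hur : ¬ (r : ℤ) ∣ u := by
    intro h
    have hnorm := CharInt.norm_char_le (Char.irr_isCharacter α) t
    rw [hu, ← Char.charDegree_cast, hA, Complex.norm_intCast, Complex.norm_natCast] at hnorm
    have hle : |u| ≤ (r : ℤ) := by exact_mod_cast hnorm
    obtain ⟨k, rfl⟩ := h
    have hr' : (2 : ℤ) ≤ r := by exact_mod_cast hr.two_le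
    have hk : k = 0 ∨ k = 1 ∨ k = -1 := by
      rw [abs_mul, abs_of_nonneg (by omega : (0 : ℤ) ≤ r)] at hle
      have : |k| ≤ 1 := le_of_mul_le_mul_left (by linarith) (by omega : (0 : ℤ) < r)
      have := abs_le.1 this
      omega
    have ht1 : t ≠ 1 := fun h => by rw [h, orderOf_one] at ht; omega
    have hdeg : α.1 1 = (r : ℂ) := by rw [← Char.charDegree_cast, hA]
    rcases hk with rfl | rfl | rfl
    · exact apply_invol_ne_zero ht (hA ▸ hr.odd_of_ne_two hr2) (by rw [hu]; simp)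
    · exact ht1 (eq_one_of_apply_eq hG hα (by rw [hu, hdeg]; simp))
    · exact apply_ne_neg hG hα ht1 (by rw [hu, hdeg]; simp)
  have hrI : Prime (r : ℤ) := Nat.prime_iff_prime_int.1 hr
  set num := c₀ * r * B + cα * u ^ 2 * B + cβ * v ^ 2 * r
  have hnum : ¬ (r : ℤ) ∣ num := by
    intro h
    have h1 : (r : ℤ) ∣ cα * u ^ 2 * B := by
      have h2 : (r : ℤ) ∣ c₀ * r * B + cβ * v ^ 2 * r := ⟨c₀ * B + cβ * v ^ 2, by ring⟩
      have := dvd_sub h h2
      rwa [show num - (c₀ * (r : ℤ) * B + cβ * v ^ 2 * r) = cα * u ^ 2 * B by ring] at this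
    rcases hrI.dvd_or_dvd h1 with h1 | h1
    · rcases hrI.dvd_or_dvd h1 with h1 | h1
      · rcases hcA with e | e <;> rw [e] at h1 <;>
          exact hr.not_dvd_one (Int.natCast_dvd_natCast.1 (by simpa using h1))
      · exact hur (hrI.dvd_of_dvd_pow h1)
    · exact hrB (Int.natCast_dvd_natCast.1 h1)
  have habs := congrArg Int.natAbs hkey
  simp only [Int.natAbs_mul, Int.natAbs_natCast, show (3 : ℤ).natAbs = 3 from rfl] at habs
  rw [show c₀.natAbs = 1 by rcases hc0 with e | e <;> rw [e] <;> rfl, one_mul, hcard] at habs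
  have hnum' : ¬ r ∣ num.natAbs := fun h => hnum (Int.natCast_dvd.2 h)
  set A₁ := (Ai y₁).card
  have h1 : r ∣ A₁ := by
    have h2 : r * r ∣ A₁ * A₁ * (r * B) := habs ▸ ⟨3 * K * (3 * 2 ^ b) * num.natAbs, by ring⟩
    have h3 : r ∣ A₁ * A₁ * B := Nat.dvd_of_mul_dvd_mul_left hr.pos
      (h2.trans (dvd_of_eq (by ring)))
    rcases hr.dvd_mul.1 h3 with h | h
    · exact (hr.dvd_mul.1 h).elim id id
    · exact absurd h hrB
  obtain ⟨a, ha⟩ := h1
  rw [ha] at habs
  have h4 : 3 * K * (3 * 2 ^ b) * num.natAbs = r * (a * a * B) := by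
    apply Nat.eq_of_mul_eq_mul_left (show 0 < r * r by have := hr.pos; positivity)
    linear_combination -habs
  have h5 : r ∣ 3 * K * (3 * 2 ^ b) * num.natAbs := ⟨_, h4⟩
  have h3r : ¬ r ∣ 3 := fun h => hr3 ((Nat.prime_dvd_prime_iff_eq hr Nat.prime_three).1 h)
  have h2r : ¬ r ∣ 2 ^ b := fun h =>
    hr2 ((Nat.prime_dvd_prime_iff_eq hr Nat.prime_two).1 (hr.dvd_of_dvd_pow h))
  exact hr.not_dvd_mul (hr.not_dvd_mul (hr.not_dvd_mul h3r hKr) (hr.not_dvd_mul h3r h2r)) hnum' h5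

end Cfsg.Agent.SmallCofactor
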