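import Cfsg.Agent.Lib.SmallCofactor.Basic
import Cfsg.Agent.Lib.KleinBlock.Shape
import Cfsg.Agent.Lib.Blocks.ThirdMain
import Cfsg.Agent.Lib.PCore.Basic
import Cfsg.Agent.S0948

/-!
# Simple groups of order `4 p^a q^b`

The principal `2`-block has four characters whose degrees are `±1` at an involution; with only
two odd primes this forces the degrees `1, 3, 3, 5` and the order `60`.
-/

set_option autoImplicit false
set_option linter.style.haveILetI false
set_option linter.unusedSectionVars false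

namespace Cfsg.Agent.SmallCofactor

open Cfsg
open scoped ComplexConjugate

universe u

/-- The pattern `x, x, 2 x + 1`. -/
theorem false_of_plus {p q a b x s : ℕ} (hp : p.Prime) (hq : q.Prime) (hx : 1 < x)
    (hxd : x ∣ p ^ a * q ^ b) (hzd : 2 * x + 1 ∣ p ^ a * q ^ b) (hs : 2 * s = x + 1)
    (hsd : s ∣ p ^ a * q ^ b) : False := by
  have key : ∀ {d}, d ∣ p ^ a * q ^ b → 1 < d → p ∣ d ∨ q ∣ d := fun {d} hd hd1 => by
    obtain ⟨l, hl, hld⟩ := Nat.exists_prime_and_dvd hd1.ne'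
    rcases (Nat.Prime.dvd_mul hl).1 (hld.trans hd) with h | h
    · exact Or.inl ((Nat.prime_dvd_prime_iff_eq hl hp).1 (hl.dvd_of_dvd_pow h) ▸ hld)
    · exact Or.inr ((Nat.prime_dvd_prime_iff_eq hl hq).1 (hl.dvd_of_dvd_pow h) ▸ hld)
  have not2 : ∀ {l}, l.Prime → l ∣ x → l ∣ 2 * x + 1 → False := fun {l} hl h h' =>
    hl.not_dvd_one ((Nat.dvd_add_right (h.mul_left 2)).1 h')
  have not3 : ∀ {l}, l.Prime → l ∣ x → l ∣ s → False := fun {l} hl h h' =>
    hl.not_dvd_one ((Nat.dvd_add_right h).1 (hs ▸ h'.mul_left 2))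
  have not4 : ∀ {l}, l.Prime → l ∣ 2 * x + 1 → l ∣ s → False := fun {l} hl h h' =>
    hl.not_dvd_one ((Nat.dvd_add_right h).1
      (show l ∣ 2 * x + 1 + 1 from (show 2 * x + 1 + 1 = 4 * s by omega) ▸ h'.mul_left 4))
  rcases key hxd hx with h1 | h1 <;> rcases key hzd (by omega) with h2 | h2 <;>
    rcases key hsd (by omega) with h3 | h3 <;>
    first
      | exact not2 hp h1 h2 | exact not2 hq h1 h2 | exact not3 hp h1 h3 | exact not3 hq h1 h3
      | exact not4 hp h2 h3 | exact not4 hq h2 h3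

/-- The pattern `y + z = x + 1`: the number theory, when one prime divides `y`. -/
theorem eq_three_of_dvd {p q a b x y z s t w : ℕ} (hp : p.Prime) (hq : q.Prime) (hp2 : p ≠ 2)
    (hq2 : q ≠ 2) (hpq : p ≠ q) (hx : 1 < x) (hy : 1 < y) (hz : 1 < z)
    (hxd : x ∣ p ^ a * q ^ b) (hyd : y ∣ p ^ a * q ^ b) (hzd : z ∣ p ^ a * q ^ b)
    (hsd : s ∣ p ^ a * q ^ b) (htd : t ∣ p ^ a * q ^ b) (hwd : w ∣ p ^ a * q ^ b)
    (hs : x + 1 = 2 * s) (ht : y = 2 * t + 1) (hw : z = 2 * w + 1)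
    (hsum : y + z = 2 * s) (hpy : p ∣ y) :
    y = 3 ∧ z = 3 ∧ x = 5 ∧ p = 3 ∧ q = 5 := by
  have nxs : ∀ {l}, l.Prime → l ∣ x → l ∣ s → False := fun {l} hl h h' =>
    hl.not_dvd_one ((Nat.dvd_add_right h).1 (hs ▸ h'.mul_left 2))
  have nyt : ∀ {l}, l.Prime → l ∣ y → l ∣ t → False := fun {l} hl h h' =>
    hl.not_dvd_one ((Nat.dvd_add_right (h'.mul_left 2)).1 (ht ▸ h))
  have nzw : ∀ {l}, l.Prime → l ∣ z → l ∣ w → False := fun {l} hl h h' =>
    hl.not_dvd_one ((Nat.dvd_add_right (h'.mul_left 2)).1 (hw ▸ h))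
  have one : ∀ {d}, d ∣ p ^ a * q ^ b → ¬ p ∣ d → ¬ q ∣ d → d = 1 := fun {d} hd h1 h2 => by
    by_contra hd1
    obtain ⟨l, hl, hld⟩ := Nat.exists_prime_and_dvd hd1
    rcases (Nat.Prime.dvd_mul hl).1 (hld.trans hd) with h | h
    · exact h1 ((Nat.prime_dvd_prime_iff_eq hl hp).1 (hl.dvd_of_dvd_pow h) ▸ hld)
    · exact h2 ((Nat.prime_dvd_prime_iff_eq hl hq).1 (hl.dvd_of_dvd_pow h) ▸ hld)
  have mix3 : ∀ {d}, d = 3 → p ∣ d → q ∣ d → False := fun {d} h h1 h2 =>
    hpq (((Nat.prime_dvd_prime_iff_eq hp Nat.prime_three).1 (h ▸ h1)).trans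
      ((Nat.prime_dvd_prime_iff_eq hq Nat.prime_three).1 (h ▸ h2)).symm)
  have hxmix : p ∣ x → q ∣ x → False := fun h1 h2 => by
    have := one hsd (nxs hp h1) (nxs hq h2)
    omega
  have hymix : ¬ q ∣ y := fun h2 => by
    have := one htd (nyt hp hpy) (nyt hq h2)
    exact mix3 (show y = 3 by omega) hpy h2
  have hzmix : p ∣ z → q ∣ z → False := fun h1 h2 => by
    have := one hwd (nzw hp h1) (nzw hq h2)
    exact mix3 (show z = 3 by omega) h1 h2
  have dvd2 : ∀ {l m}, l.Prime → l ≠ 2 → l ∣ 2 * m → l ∣ m := fun {l m} hl hl2 h =>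
    (hl.dvd_mul.1 h).resolve_left fun h2 => hl2 ((Nat.prime_dvd_prime_iff_eq hl Nat.prime_two).1 h2)
  -- the prime dividing `z` is `p`
  have hpz : p ∣ z := by
    by_contra hpz
    have hqz : q ∣ z := by_contra fun h => by have := one hzd hpz h; omega
    have hps : ¬ p ∣ s := fun h => hpz ((Nat.dvd_add_right hpy).1 (hsum ▸ h.mul_left 2))
    have hqs : ¬ q ∣ s := fun h => hymix ((Nat.dvd_add_left hqz).1 (hsum ▸ h.mul_left 2))
    have := one hsd hps hqs
    omega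
  have hqz : ¬ q ∣ z := hzmix hpz
  have hps : p ∣ s := dvd2 hp hp2 (hsum ▸ Nat.dvd_add hpy hpz)
  have hpx : ¬ p ∣ x := fun h => nxs hp h hps
  have hqx : q ∣ x := by_contra fun h => by have := one hxd hpx h; omega
  obtain ⟨i, j, hij⟩ := exists_pow_of_dvd hp hq hyd
  have hj : j = 0 := by_contra fun h => hymix (hij ▸ (dvd_pow_self q h).mul_left _)
  obtain ⟨i', j', hij'⟩ := exists_pow_of_dvd hp hq hzd
  have hj' : j' = 0 := by_contra fun h => hqz (hij' ▸ (dvd_pow_self q h).mul_left _)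
  obtain ⟨k, l, hkl⟩ := exists_pow_of_dvd hp hq hsd
  have hl : l = 0 := by_contra fun h => nxs hq hqx (hkl ▸ (dvd_pow_self q h).mul_left _)
  rw [hj, pow_zero, mul_one] at hij
  rw [hj', pow_zero, mul_one] at hij'
  rw [hl, pow_zero, mul_one] at hkl
  have hp3 : 3 ≤ p := lt_of_le_of_ne hp.two_le (Ne.symm hp2)
  have hii : i = k ∧ i' = k := by
    have h : p ^ i + p ^ i' = 2 * p ^ k := by rw [← hij, ← hij', ← hkl]; exact hsum
    have hk : ∀ {e f}, p ^ e + p ^ f = 2 * p ^ k → e ≤ f → e = k ∧ f = k := fun {e f} h hef => by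
      obtain ⟨d, rfl⟩ := Nat.exists_eq_add_of_le hef
      rcases Nat.eq_zero_or_pos d with rfl | hd
      · have h' : p ^ e = p ^ k := by rw [add_zero] at h; omega
        exact ⟨Nat.pow_right_injective hp.two_le h', Nat.pow_right_injective hp.two_le (by simpa using h')⟩
      exfalso
      have hnd : ¬ p ∣ 1 + p ^ d := fun h' =>
        hp.not_dvd_one ((Nat.dvd_add_left (dvd_pow_self p hd.ne')).1 h')
      have hn2 : ¬ p ∣ 2 := fun h' => hp2 ((Nat.prime_dvd_prime_iff_eq hp Nat.prime_two).1 h')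
      have h' : p ^ e * (1 + p ^ d) = 2 * p ^ k := by rw [← h, pow_add]; ring
      have he : e = k := by
        apply Nat.pow_right_injective hp.two_le
        refine Nat.dvd_antisymm ?_ ?_
        · exact ((hp.coprime_iff_not_dvd.2 hn2).pow_left e).dvd_of_dvd_mul_left (h' ▸ dvd_mul_right _ _)
        · exact ((hp.coprime_iff_not_dvd.2 hnd).pow_left k).dvd_of_dvd_mul_right
            (h' ▸ dvd_mul_left _ _)
      subst he
      have h1 : 1 + p ^ d = 2 := Nat.eq_of_mul_eq_mul_left (pow_pos hp.pos e)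
        (h'.trans (mul_comm _ _))
      have : 3 ≤ p ^ d := hp3.trans (Nat.le_self_pow hd.ne' p)
      omega
    rcases le_total i i' with h' | h'
    · exact hk h h'
    · exact (hk (add_comm (p ^ i) (p ^ i') ▸ h) h').symm
  have hys : y = s := by rw [hij, hkl, hii.1]
  have hzs : z = s := by rw [hij', hkl, hii.2]
  have hpt : ¬ p ∣ t := nyt hp hpy
  have hqt : ¬ q ∣ t := fun h => hq.not_dvd_one ((Nat.dvd_add_right (h.mul_left 4)).1
    (show q ∣ 4 * t + 1 from (show x = 4 * t + 1 by omega) ▸ hqx))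
  have := one htd hpt hqt
  have hy3 : y = 3 := by omega
  have hx5 : x = 5 := by omega
  exact ⟨hy3, by omega, hx5, (Nat.prime_dvd_prime_iff_eq hp Nat.prime_three).1 (hy3 ▸ hpy),
    (Nat.prime_dvd_prime_iff_eq hq (by norm_num)).1 (hx5 ▸ hqx)⟩

variable {G : Type u} [Group G] [Fintype G] {M : Ideal AlgInt} {J : G}

/-- Principal block values at an involution times a commuting element of odd order. -/
theorem apply_invol_mul (d : KleinBlock.Data J) (hM : IsPModular 2 M) {χ : IrrCharacter G}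
    (hχ : χ ∈ principalBlock M G) {e v : G} (he : orderOf e = 2) (hev : Commute e v)
    (hv : Odd (orderOf v)) : χ.1 (e * v) = χ.1 e := by
  haveI := hM.2.1
  haveI : Fact (Nat.Prime 2) := ⟨Nat.prime_two⟩
  obtain ⟨c, hc⟩ := isConj_iff.1 (d.conj e he)
  set v' := c⁻¹ * v * c with hv'
  have hv'N : v' ∈ d.N := by
    refine (d.mem_N _).2 ⟨?_, ?_⟩
    · have h := hev.map (MulAut.conj c⁻¹).toMonoidHom
      have eJ : c⁻¹ * e * c = J := by rw [← hc]; group
      simpa [MulAut.conj_apply, eJ, hv'] using h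
    · have h : orderOf v' = orderOf v := by
        have h1 := MulEquiv.orderOf_eq (MulAut.conj c⁻¹) v
        simpa [MulAut.conj_apply, hv'] using h1
      rwa [h]
  have hmem : v' ∈ centralizerPPrimeCore 2 J := by
    have hle : d.N ≤ Subgroup.centralizer ({J} : Set G) := fun w hw =>
      Subgroup.mem_centralizer_singleton_iff.2 ((d.mem_N w).1 hw).1.symm.eq
    haveI : (d.N.subgroupOf (Subgroup.centralizer ({J} : Set G))).Normal := ⟨fun w hw g => by
      have hg : Commute J (g : G) := (Subgroup.mem_centralizer_singleton_iff.1 g.2).symm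
      simpa [Subgroup.mem_subgroupOf] using d.conjN g hg w (Subgroup.mem_subgroupOf.1 hw)⟩
    refine Subgroup.mem_map.2 ⟨⟨v', hle hv'N⟩, PCore.le_pPrimeCore
      (N := d.N.subgroupOf (Subgroup.centralizer ({J} : Set G))) ?_
      (Subgroup.mem_subgroupOf.2 hv'N), rfl⟩
    rw [Nat.card_congr (Subgroup.subgroupOfEquivOfLe hle).toEquiv]
    exact Nat.coprime_two_right.2 d.oddN
  have h := Blocks.principal_apply_mul_core hM.2.2 ⟨1, by rw [d.hJ, pow_one]⟩ hmem hχ
  have hcl := Char.IsCharacter.isClassFunction (Char.irr_isCharacter χ)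
  have e1 : χ.1 (e * v) = χ.1 (J * v') := by
    rw [← hcl (J * v') c]; congr 1; rw [← hc, hv']; group
  have e2 : χ.1 e = χ.1 J := by rw [← hc]; exact hcl J c
  rw [e1, e2, h]

/-- No fixed points of a four-group: the sum of the character over a coset vanishes. -/
theorem sum_coset_eq_zero (χ : IrrCharacter G) (P : Subgroup G) [Fintype P]
    (h0 : ∑ x : P, χ.1 x = 0) (v : G) : ∑ x : P, χ.1 ((x : G) * v) = 0 := by
  obtain ⟨n, ρ, -, hχ⟩ := χ.2
  set T : Module.End ℂ (Fin n → ℂ) := ∑ x : P, ρ (x : G) with hT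
  have hc : (Fintype.card P : ℂ) ≠ 0 := by exact_mod_cast Fintype.card_ne_zero
  have hTT : T * T = (Fintype.card P : ℂ) • T := by
    have hxT : ∀ x : P, ρ (x : G) * ∑ y : P, ρ (y : G) = ∑ y : P, ρ (y : G) := fun x => by
      rw [Finset.mul_sum]
      exact Fintype.sum_equiv (Equiv.mulLeft x) _ _ fun y => by
        rw [← map_mul]; rfl
    rw [hT, Finset.sum_mul, Finset.sum_congr rfl fun (x : P) _ => hxT x, Finset.sum_const,
      Finset.card_univ, Nat.cast_smul_eq_nsmul]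
  set e := (Fintype.card P : ℂ)⁻¹ • T with he
  have hid : IsIdempotentElem e := by
    show e * e = e
    rw [he, smul_mul_smul_comm, hTT, smul_smul, mul_assoc, inv_mul_cancel₀ hc, mul_one]
  have htrT : LinearMap.trace ℂ _ T = 0 := by
    rw [hT, map_sum, ← h0]
    exact Finset.sum_congr rfl fun x _ => by rw [← hχ]; rfl
  have hr := LinearMap.IsProj.trace (R := ℂ)
    (LinearMap.isProj_range_iff_isIdempotentElem e |>.2 hid)
  rw [he, map_smul, htrT, smul_zero] at hr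
  have hrank : Module.finrank ℂ (LinearMap.range e) = 0 := by exact_mod_cast hr.symm
  have hT0 : T = 0 := by
    have h1 : e = 0 := LinearMap.range_eq_bot.1 (Submodule.finrank_eq_zero.1 hrank)
    exact (smul_eq_zero.1 h1).resolve_left (inv_ne_zero hc)
  calc ∑ x : P, χ.1 ((x : G) * v) = LinearMap.trace ℂ _ (T * ρ v) := by
        rw [hT, Finset.sum_mul, map_sum]
        exact Finset.sum_congr rfl fun x _ => by rw [← hχ, ← map_mul]; rfl
    _ = 0 := by rw [hT0, zero_mul, map_zero]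

/-- An element of odd order commuting with an involution `J` in a three-dimensional
representation where `J` and `J v` have trace `-1` and `v` has real trace is trivial. -/
theorem eq_one_of_three [IsSimpleGroup G] (hG : ¬ IsMulCommutative G) {χ : IrrCharacter G}
    (hne : χ ≠ Char.trivialChar G) (hdeg : χ.1 1 = 3) {J v : G} (hJ : orderOf J = 2)
    (hJval : χ.1 J = -1) (hc : Commute J v) (hv : Odd (orderOf v)) (hJv : χ.1 (J * v) = χ.1 J)
    (hreal : conj (χ.1 v) = χ.1 v) : v = 1 := by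
  have hJJ : J * J = 1 := by rw [← pow_two, ← hJ, pow_orderOf_eq_one]
  set m := orderOf v with hm
  obtain ⟨n, μ, hn, hμ, hpow⟩ := CharInt.exists_roots (Char.irr_isCharacter χ) (J * v)
  obtain rfl : n = 3 := by rw [hdeg] at hn; exact_mod_cast hn.symm
  have hord : (J * v) ^ (2 * m) = 1 := by
    rw [hc.mul_pow, pow_mul, pow_two, hJJ, one_pow, one_mul, mul_comm, pow_mul,
      pow_orderOf_eq_one, one_pow]
  have hμ2 : ∀ i, μ i ^ m * μ i ^ m = 1 := fun i => by
    rw [← pow_add, ← two_mul]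
    obtain ⟨e, he⟩ := orderOf_dvd_of_pow_eq_one hord
    rw [he, pow_mul, hμ, one_pow]
  have hJm : J ^ m = J := by
    obtain ⟨k, hk⟩ := hv
    rw [hk, pow_succ, pow_mul, pow_two, hJJ, one_pow, one_mul]
  have h1 : (J * v) ^ m = J := by rw [hc.mul_pow, hJm, hm, pow_orderOf_eq_one, mul_one]
  have hsum : ∀ k, χ.1 ((J * v) ^ k) = μ 0 ^ k + μ 1 ^ k + μ 2 ^ k := fun k => by
    rw [hpow, Fin.sum_univ_three]
  have hs : μ 0 ^ m + μ 1 ^ m + μ 2 ^ m = -1 := by rw [← hsum, h1, hJval]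
  have hsign : ∀ i, μ i ^ m = 1 ∨ μ i ^ m = -1 := fun i => mul_self_eq_one_iff.1 (hμ2 i)
  -- one of the three is fixed by `J`
  obtain ⟨i₀, i₁, i₂, hperm, e0, e1, e2⟩ : ∃ i₀ i₁ i₂ : Fin 3,
      (∀ f : Fin 3 → ℂ, f 0 + f 1 + f 2 = f i₀ + f i₁ + f i₂) ∧
      μ i₀ ^ m = 1 ∧ μ i₁ ^ m = -1 ∧ μ i₂ ^ m = -1 := by
    rcases hsign 0 with a | a <;> rcases hsign 1 with b | b <;> rcases hsign 2 with c | c <;>
      rw [a, b, c] at hs <;>
      first
        | exact ⟨0, 1, 2, fun f => rfl, a, b, c⟩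
        | exact ⟨1, 0, 2, fun f => by ring, b, a, c⟩
        | exact ⟨2, 0, 1, fun f => by ring, c, a, b⟩
        | (exfalso; norm_num at hs)
  have hv1 : (J * v) ^ (m + 1) = v := by
    rw [pow_succ, h1, ← mul_assoc, hJJ, one_mul]
  have hval : χ.1 v = μ i₀ + -μ i₁ + -μ i₂ := by
    rw [← hv1, hsum, hperm (fun i => μ i ^ (m + 1)), pow_succ, pow_succ, pow_succ, e0, e1, e2]
    ring
  have hA : μ i₀ + μ i₁ + μ i₂ = -1 := by
    rw [← hperm μ, ← hJval, ← hJv, ← pow_one (J * v), hsum]; ring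
  have hm0 : m ≠ 0 := hv.pos.ne'
  have hreal0 : conj (μ i₀) = μ i₀ := by
    have h2 := congrArg conj hA
    have h3 : conj (μ i₀ + -μ i₁ + -μ i₂) = μ i₀ + -μ i₁ + -μ i₂ := by rw [← hval]; exact hreal
    simp only [map_add, map_neg, map_one] at h2 h3
    linear_combination (1 / 2 : ℂ) * h2 + (1 / 2 : ℂ) * h3 - (1 / 2 : ℂ) * hA
  have h01 : μ i₀ = 1 := by
    have hinv := CharInt.conj_eq_inv_of_pow_eq_one hm0 e0
    rw [hreal0] at hinv
    have hne0 : μ i₀ ≠ 0 := fun h => by rw [h, zero_pow hm0] at e0; exact zero_ne_one e0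
    have hsq : μ i₀ * μ i₀ = 1 := by
      nth_rewrite 2 [hinv]
      exact mul_inv_cancel₀ hne0
    rcases mul_self_eq_one_iff.1 hsq with h | h
    · exact h
    · exfalso
      rw [h, hv.neg_one_pow] at e0
      norm_num at e0
  refine eq_one_of_apply_eq hG hne ?_
  rw [hdeg, hval]
  linear_combination 2 * h01 - hA

/-- A simple group of order `4 p^a q^b` has order `60`. -/
theorem card_eq_sixty_of_four [IsSimpleGroup G] (hG : ¬ IsMulCommutative G) {p q a b : ℕ}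
    (hp : p.Prime) (hq : q.Prime) (hp2 : p ≠ 2) (hq2 : q ≠ 2) (hpq : p ≠ q)
    (hcard : Nat.card G = 4 * p ^ a * q ^ b) : Nat.card G = 60 := by
  classical
  haveI : Fact (Nat.Prime 2) := ⟨Nat.prime_two⟩
  obtain ⟨M, hM⟩ := CharInt.exists_isPModular_of_prime Nat.prime_two
  set g₀ := p ^ a * q ^ b with hg₀def
  have hcard' : Nat.card G = 4 * g₀ := by rw [hcard, mul_assoc]
  have hg₀ : Odd g₀ := ((hp.odd_of_ne_two hp2).pow).mul ((hq.odd_of_ne_two hq2).pow)
  have hg1 : g₀ ≠ 1 := fun h => false_of_two hG Nat.prime_two Nat.prime_two (a := 2) (b := 0)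
    (by rw [hcard', h]; rfl)
  have hnc : ¬ ∃ N : Subgroup G, N.Normal ∧ Nat.card N = g₀ := by
    rintro ⟨N, hN, hNc⟩
    rcases hN.eq_bot_or_eq_top with h | h <;> subst h
    · rw [Subgroup.card_bot] at hNc; exact hg1 hNc.symm
    · rw [Subgroup.card_top, hcard'] at hNc; have := hg₀.pos; omega
  obtain ⟨P⟩ : Nonempty (Sylow 2 G) := inferInstance
  have h2P : 2 ∣ Nat.card (P : Subgroup G) :=
    P.dvd_card_of_dvd_card (hcard' ▸ (by norm_num : 2 ∣ 4).mul_right g₀)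
  obtain ⟨j, hj⟩ := exists_prime_orderOf_dvd_card' 2 h2P
  obtain ⟨J, hJP, hJ2⟩ : ∃ J, J ∈ (P : Subgroup G) ∧ orderOf J = 2 :=
    ⟨j, j.2, by rw [Subgroup.orderOf_coe]; exact hj⟩
  obtain ⟨d, hd⟩ := KleinBlock.exists_data hg₀ hcard' hnc P hJP hJ2
  have hP4 : Nat.card (P : Subgroup G) = 4 := by rw [← hd]; exact d.cardP
  have hsqP : ∀ x : (P : Subgroup G), x ^ 2 = 1 := fun x => Subtype.ext (by
    rw [pow_two]; exact d.sq x (by rw [hd]; exact x.2))
  haveI : IsKleinFour (P : Subgroup G) := by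
    refine ⟨hP4, ?_⟩
    rcases (Nat.dvd_prime Nat.prime_two).1 (Monoid.exponent_dvd_of_forall_pow_eq_one
      (G := (P : Subgroup G)) (n := 2) hsqP) with h | h
    · haveI := Monoid.exp_eq_one_iff.1 h
      have : Nat.card (P : Subgroup G) = 1 := Nat.card_eq_one_iff_unique.2 ⟨inferInstance, ⟨1⟩⟩
      omega
    · exact h
  obtain ⟨ζ₂, ζ₃, ζ₄, ε, hε, h2, h3, h23, h24, h34, hB, hval, -, -, -, -⟩ :=
    S0948.result M hM P inferInstance (fun s t hs ht => (d.conj s hs).symm.trans (d.conj t ht))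
  obtain ⟨v2, v3, v4⟩ := hval J d.hJ
  have h4 : (ζ₄ : G → ℂ) ≠ (fun _ => 1) := fun h => by
    rw [h] at v4; norm_num at v4
  let bl : KleinBlock.FourBlock M J := ⟨ζ₂, ζ₃, ζ₄, 1, ε, -1, hB, ⟨h2, h3, h4, h23, h24, h34⟩,
    ⟨Or.inl rfl, hε, Or.inr rfl⟩, ⟨by rw [v2, Int.cast_one], v3,
      by rw [v4, Int.cast_neg, Int.cast_one]⟩⟩
  have hrel : 1 + (1 : ℤ) * charDegree ζ₂.1 + ε * charDegree ζ₃.1 + (-1) * charDegree ζ₄.1 = 0 :=
    bl.relation d hM
  have hne : ∀ {χ : IrrCharacter G}, χ.1 ≠ (fun _ => 1) → χ ≠ Char.trivialChar G :=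
    fun h he => h (by rw [he]; rfl)
  have hodd : ∀ (χ : IrrCharacter G) {e : ℤ}, (e = 1 ∨ e = -1) → χ.1 J = e → χ.1 ≠ (fun _ => 1) →
      1 < charDegree χ.1 ∧ charDegree χ.1 ∣ g₀ ∧ Odd (charDegree χ.1) := fun χ e he hv hn => by
    have ho := KleinBlock.odd_charDegree d.hJ χ he hv
    refine ⟨one_lt_degree hG (hne hn), ?_, ho⟩
    exact ((Nat.coprime_two_right.2 ho).pow_right 2).dvd_of_dvd_mul_left
      (show charDegree χ.1 ∣ 2 ^ 2 * g₀ from hcard' ▸ Char.charDegree_dvd_card χ)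
  obtain ⟨hx, hxd, hxo⟩ := hodd ζ₂ (Or.inl rfl) bl.hval.1 h2
  obtain ⟨hy, hyd, hyo⟩ := hodd ζ₃ hε v3 h3
  obtain ⟨hz, hzd, hzo⟩ := hodd ζ₄ (Or.inr rfl) bl.hval.2.2 h4
  have hdg : ∀ H : Subgroup G, Odd (Nat.card H) → Nat.card H ∣ g₀ := fun H ho =>
    ((Nat.coprime_two_right.2 ho).pow_right 2).dvd_of_dvd_mul_left
      (show Nat.card H ∣ 2 ^ 2 * g₀ from hcard' ▸ Subgroup.card_subgroup_dvd_card H)
  have hn := hdg d.N d.oddN
  set μS := (d.N ⊓ Subgroup.centralizer ({d.u} : Set G) : Subgroup G) with hμS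
  have hμo : Odd (Nat.card μS) := d.oddN.of_dvd_nat (Subgroup.card_dvd_of_le inf_le_left)
  rcases hε with rfl | rfl
  · exfalso
    obtain ⟨m, hm, -⟩ := bl.psl_shape d hM (show (1 : ℤ) * 1 * -1 = -1 by norm_num) rfl
    have heq : charDegree ζ₂.1 = charDegree ζ₃.1 := bl.degree_eq_of_neg d hM rfl rfl rfl
    have hm' : 4 * (4 * Nat.card d.N) = m * (4 * Nat.card μS) * (charDegree ζ₄.1 + 1) := by
      rw [← d.card_centralizer_J, ← d.card_centralizer_P]; exact hm
    rw [show charDegree ζ₄.1 = 2 * charDegree ζ₂.1 + 1 by omega] at hm' hzd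
    obtain ⟨s, hs⟩ : 2 ∣ charDegree ζ₂.1 + 1 := by
      obtain ⟨k, hk⟩ := hxo; exact ⟨k + 1, by omega⟩
    have hsd : s ∣ g₀ := by
      refine Dvd.dvd.trans ⟨m * Nat.card μS, ?_⟩ hn
      have h' : 4 * (4 * Nat.card d.N) = 4 * (4 * (s * (m * Nat.card μS))) := by
        rw [hm', show 2 * charDegree ζ₂.1 + 1 + 1 = 4 * s by omega]; ring
      omega
    exact false_of_plus hp hq hx hxd hzd hs.symm hsd
  · -- the degrees are `5, 3, 3`
    obtain ⟨s, hs⟩ : 2 ∣ charDegree ζ₂.1 + 1 := by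
      obtain ⟨k, hk⟩ := hxo; exact ⟨k + 1, by omega⟩
    obtain ⟨t, ht⟩ := hyo
    obtain ⟨w, hw⟩ := hzo
    have hform := bl.order_formula d hM
    change (Nat.card G : ℚ) * (((charDegree ζ₂.1 : ℚ) + ((1 : ℤ) : ℚ)) *
      ((charDegree ζ₃.1 : ℚ) + ((-1 : ℤ) : ℚ)) * ((charDegree ζ₄.1 : ℚ) + ((-1 : ℤ) : ℚ))) *
      (Nat.card (Subgroup.centralizer ((d.P : Set G))) : ℚ) ^ 2 =
      8 * ((charDegree ζ₂.1 : ℚ) * charDegree ζ₃.1 * charDegree ζ₄.1) *
        (Nat.card (Subgroup.centralizer ({J} : Set G)) : ℚ) ^ 3 at hform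
    rw [d.card_centralizer_J, d.card_centralizer_P, hcard', ht, hw,
      show (charDegree ζ₂.1 : ℚ) = 2 * s - 1 by
        have : ((charDegree ζ₂.1 + 1 : ℕ) : ℚ) = ((2 * s : ℕ) : ℚ) := by rw [hs]
        push_cast at this; linarith] at hform
    push_cast at hform
    set X := charDegree ζ₂.1
    have hform' : g₀ * s * t * w * Nat.card μS ^ 2 =
        X * (2 * t + 1) * (2 * w + 1) * Nat.card d.N ^ 3 := by
      have : ((g₀ * s * t * w * Nat.card μS ^ 2 : ℕ) : ℚ) =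
          ((X * (2 * t + 1) * (2 * w + 1) * Nat.card d.N ^ 3 : ℕ) : ℚ) := by
        push_cast
        have hX : (X : ℚ) = 2 * s - 1 := by
          have : ((X + 1 : ℕ) : ℚ) = ((2 * s : ℕ) : ℚ) := by rw [hs]
          push_cast at this; linarith
        rw [hX]
        linear_combination (1 / 512 : ℚ) * hform
      exact_mod_cast this
    obtain ⟨A, B, hAB⟩ : ∃ A B, X * (2 * t + 1) * (2 * w + 1) * Nat.card d.N ^ 3 ∣ p ^ A * q ^ B := by
      refine ⟨a * 6, b * 6, ?_⟩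
      rw [pow_mul, pow_mul, ← mul_pow]
      exact (mul_dvd_mul (mul_dvd_mul (mul_dvd_mul hxd (ht ▸ hyd)) (hw ▸ hzd))
        (pow_dvd_pow_of_dvd hn 3)).trans (dvd_of_eq (by ring))
    rw [← hform'] at hAB
    have hsd : s ∣ p ^ A * q ^ B := Dvd.dvd.trans ⟨g₀ * t * w * Nat.card μS ^ 2, by ring⟩ hAB
    have htd : t ∣ p ^ A * q ^ B := Dvd.dvd.trans ⟨g₀ * s * w * Nat.card μS ^ 2, by ring⟩ hAB
    have hwd : w ∣ p ^ A * q ^ B := Dvd.dvd.trans ⟨g₀ * s * t * Nat.card μS ^ 2, by ring⟩ hAB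
    have hup : ∀ {D}, D ∣ g₀ → D ∣ p ^ A * q ^ B := fun {D} h =>
      h.trans (Dvd.dvd.trans ⟨s * t * w * Nat.card μS ^ 2, by ring⟩ hAB)
    have hsum : charDegree ζ₃.1 + charDegree ζ₄.1 = 2 * s := by omega
    obtain ⟨hy3, hz3, hx5, hpr⟩ : charDegree ζ₃.1 = 3 ∧ charDegree ζ₄.1 = 3 ∧ X = 5 ∧
        (p ∣ g₀ ∧ q ∣ g₀ ∧ ((p = 3 ∧ q = 5) ∨ (p = 5 ∧ q = 3))) := by
      obtain ⟨l, hl, hld⟩ := Nat.exists_prime_and_dvd hy.ne'
      have hlpq : l = p ∨ l = q := by
        rcases (Nat.Prime.dvd_mul hl).1 (hld.trans hyd) with h | h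
        · exact Or.inl ((Nat.prime_dvd_prime_iff_eq hl hp).1 (hl.dvd_of_dvd_pow h))
        · exact Or.inr ((Nat.prime_dvd_prime_iff_eq hl hq).1 (hl.dvd_of_dvd_pow h))
      rcases hlpq with rfl | rfl
      · obtain ⟨r1, r2, r3, r4, r5⟩ := eq_three_of_dvd hp hq hp2 hq2 hpq hx hy hz (hup hxd)
          (hup hyd) (hup hzd) hsd htd hwd hs ht hw hsum hld
        exact ⟨r1, r2, r3, hld.trans hyd, (r5 ▸ (r3 ▸ hxd)), Or.inl ⟨r4, r5⟩⟩
      · obtain ⟨r1, r2, r3, r4, r5⟩ := eq_three_of_dvd (a := B) (b := A) hq hp hq2 hp2 hpq.symm hx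
          hy hz (mul_comm (p ^ A) _ ▸ hup hxd) (mul_comm (p ^ A) _ ▸ hup hyd)
          (mul_comm (p ^ A) _ ▸ hup hzd) (mul_comm (p ^ A) _ ▸ hsd) (mul_comm (p ^ A) _ ▸ htd)
          (mul_comm (p ^ A) _ ▸ hwd) hs ht hw hsum hld
        exact ⟨r1, r2, r3, (r5 ▸ (r3 ▸ hxd)), hld.trans hyd, Or.inr ⟨r5, r4⟩⟩
    -- `C_N(u) = 1`
    haveI := Fintype.ofFinite d.P
    have hinvol : ∀ x ∈ d.P, x ≠ 1 → ζ₄.1 x = -1 := fun x hx hx1 =>
      (hval x (orderOf_eq_prime (by rw [pow_two, d.sq x hx]) hx1)).2.2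
    have hdeg : ζ₄.1 1 = 3 := by rw [← Char.charDegree_cast, hz3]; norm_num
    have hcardP : Fintype.card d.P = 4 := by rw [← Nat.card_eq_fintype_card, d.cardP]
    have herase : (Finset.univ.erase (1 : d.P)).card = 3 := by
      rw [Finset.card_erase_of_mem (Finset.mem_univ _), Finset.card_univ, hcardP]
    have h0 : ∑ x : d.P, ζ₄.1 x = 0 := by
      rw [← Finset.add_sum_erase _ _ (Finset.mem_univ (1 : d.P)), OneMemClass.coe_one, hdeg,
        Finset.sum_congr rfl fun (x : d.P) hx => hinvol x x.2 (fun h =>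
          Finset.ne_of_mem_erase hx (Subtype.ext h)), Finset.sum_const, herase]
      norm_num
    have hbl : ζ₄ ∈ principalBlock M G := hB ▸ Or.inr (Or.inr (Or.inr rfl))
    have hμ : ∀ v ∈ μS, v = 1 := by
      rintro v ⟨hvN, hvu⟩
      have hvJ : Commute J v := ((d.mem_N v).1 hvN).1
      have hvu' : Commute d.u v := (Subgroup.mem_centralizer_singleton_iff.1 hvu).symm
      have hcP : ∀ x ∈ d.P, Commute x v := fun x hx => by
        rcases d.two x hx with rfl | rfl | rfl | rfl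
        exacts [Commute.one_left v, hvJ, hvu', hvu'.mul_left hvJ]
      have hs0 := sum_coset_eq_zero ζ₄ d.P h0 v
      rw [← Finset.add_sum_erase _ _ (Finset.mem_univ (1 : d.P)), OneMemClass.coe_one, one_mul,
        Finset.sum_congr rfl fun (x : d.P) hx => (apply_invol_mul d hM hbl
          (orderOf_eq_prime (by rw [pow_two, d.sq x x.2])
            (fun h => Finset.ne_of_mem_erase hx (Subtype.ext h))) (hcP x x.2) (d.odd_of_mem hvN)).trans
          (hinvol x x.2 (fun h => Finset.ne_of_mem_erase hx (Subtype.ext h))),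
        Finset.sum_const, herase] at hs0
      refine eq_one_of_apply_eq hG (hne h4) ?_
      rw [hdeg]
      norm_num at hs0
      linear_combination hs0
    have hμ1 : Nat.card μS = 1 := by
      rw [(Subgroup.eq_bot_iff_forall _).2 hμ, Subgroup.card_bot]
    -- `N` is inverted by `u`
    have hN1 : ∀ v ∈ d.N, v = 1 := by
      haveI := Fintype.ofFinite d.N
      haveI := Fintype.ofFinite μS
      have hall := d.card_invol_coset d.umem
      rw [← hμS, hμ1, mul_one, Nat.card_eq_fintype_card] at hall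
      intro v hv
      have hinv : (v * d.u) * (v * d.u) = 1 :=
        (Finset.card_filter_eq_iff.1 hall) ⟨v, hv⟩ (Finset.mem_univ _)
      have hu : d.u * d.u = 1 := d.sq _ d.umem
      have hvc : d.u * v * d.u = v⁻¹ := eq_inv_of_mul_eq_one_right (by rw [← hinv]; group)
      have hreal : (starRingEnd ℂ) (ζ₄.1 v) = ζ₄.1 v := by
        rw [Char.IsCharacter.conj_apply (Char.irr_isCharacter ζ₄), ← hvc,
          show d.u * v * d.u = d.u * v * d.u⁻¹ by rw [inv_eq_of_mul_eq_one_right hu]]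
        exact Char.IsCharacter.isClassFunction (Char.irr_isCharacter ζ₄) v d.u
      exact eq_one_of_three hG (hne h4) hdeg d.hJ (hinvol J d.jmem (fun h => by
        have := d.hJ; rw [h, orderOf_one] at this; omega)) ((d.mem_N v).1 hv).1 (d.odd_of_mem hv)
        (apply_invol_mul d hM hbl d.hJ ((d.mem_N v).1 hv).1 (d.odd_of_mem hv)) hreal
    have hN : Nat.card d.N = 1 := by
      rw [(Subgroup.eq_bot_iff_forall _).2 hN1, Subgroup.card_bot]
    rw [hN, hμ1, hx5, show t = 1 by omega, show w = 1 by omega, show s = 3 by omega] at hform'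
    rw [hcard']
    omega

end Cfsg.Agent.SmallCofactor
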