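import Cfsg.Agent.Lib.Char.KernelSum
import Cfsg.Agent.Lib.CharInt.Central
import Cfsg.Agent.Lib.Blocks.PrimePowerDegree
import Cfsg.Agent.Lib.SmallSimple.Criteria

/-!
# Tools for simple groups whose order has three prime divisors
-/

set_option autoImplicit false
set_option linter.style.haveILetI false
set_option linter.unusedSectionVars false

namespace Cfsg.Agent.SmallCofactor

open Cfsg
open scoped ComplexConjugate

universe u

variable {G : Type u} [Group G] [Finite G]

theorem exists_noncomm (hG : ¬ IsMulCommutative G) : ∃ a b : G, a * b ≠ b * a := by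
  by_contra! h
  exact hG (isMulCommutative_iff.2 h)

variable [IsSimpleGroup G]

theorem not_prime_card (hG : ¬ IsMulCommutative G) : ¬ (Nat.card G).Prime := fun h => by
  haveI : Fact (Nat.card G).Prime := ⟨h⟩
  haveI : IsCyclic G := isCyclic_of_prime_card rfl
  letI := IsCyclic.commGroup (α := G)
  exact hG (isMulCommutative_iff.2 mul_comm)

/-- Burnside's theorem in the form used here. -/
theorem false_of_two (hG : ¬ IsMulCommutative G) {q r a b : ℕ} (hq : q.Prime) (hr : r.Prime)
    (h : Nat.card G = q ^ a * r ^ b) : False :=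
  SmallSimple.false_of_two_primes hq hr h (not_prime_card hG)

theorem one_lt_degree (hG : ¬ IsMulCommutative G) {χ : IrrCharacter G}
    (hne : χ ≠ Char.trivialChar G) : 1 < charDegree χ.1 := by
  rcases Nat.lt_or_ge 1 (charDegree χ.1) with h | h
  · exact h
  · have h1 : charDegree χ.1 = 1 := le_antisymm h (Char.charDegree_pos χ)
    exact absurd (Blocks.eq_trivial_of_degree_one (exists_noncomm hG) χ
      (by rw [← Char.charDegree_cast, h1, Nat.cast_one])) hne

/-- A nontrivial irreducible character of a simple group is faithful. -/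
theorem eq_one_of_apply_eq (hG : ¬ IsMulCommutative G) {χ : IrrCharacter G}
    (hne : χ ≠ Char.trivialChar G) {g : G} (hg : χ.1 g = χ.1 1) : g = 1 := by
  by_contra hg1
  haveI := Fintype.ofFinite G
  have hc := Char.irr_isCharacter χ
  rcases (CharInt.charKernel_normal hc).eq_bot_or_eq_top with h | h
  · exact hg1 (Subgroup.mem_bot.1 (h ▸ (CharInt.mem_charKernel hc).2 hg))
  · have hconst : ∀ x, χ.1 x = χ.1 1 := fun x =>
      (CharInt.mem_charKernel hc).1 (h ▸ Subgroup.mem_top x)
    have h0 := Char.sum_apply_eq_zero hne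
    rw [Finset.sum_congr rfl fun x _ => hconst x, Finset.sum_const, Finset.card_univ,
      nsmul_eq_mul] at h0
    rcases mul_eq_zero.1 h0 with h2 | h2
    · exact Fintype.card_ne_zero (by exact_mod_cast h2)
    · exact Char.IsIrrCharacter.apply_one_ne_zero χ.2 h2

/-- The value of a nontrivial irreducible character at a nontrivial element is not `± χ 1`. -/
theorem apply_ne_neg (hG : ¬ IsMulCommutative G) {χ : IrrCharacter G}
    (hne : χ ≠ Char.trivialChar G) {g : G} (hg1 : g ≠ 1) : χ.1 g ≠ - χ.1 1 := by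
  intro hg
  have hc := Char.irr_isCharacter χ
  have hn : ‖χ.1 g‖ = ‖χ.1 1‖ := by rw [hg, norm_neg]
  have hmem : g ∈ Subgroup.center G :=
    CharInt.mem_center_of_norm_eq χ.2 (fun he => hne (Subtype.ext he)) hn
  rw [Blocks.center_eq_bot (exists_noncomm hG)] at hmem
  exact hg1 (Subgroup.mem_bot.1 hmem)

omit [IsSimpleGroup G] in
/-- A divisor of a product of powers of two primes is of that form. -/
theorem exists_pow_of_dvd {p q a b d : ℕ} (hp : p.Prime) (hq : q.Prime)
    (h : d ∣ p ^ a * q ^ b) : ∃ i j, d = p ^ i * q ^ j := by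
  obtain ⟨y, z, hy, hz, rfl⟩ := Nat.dvd_mul.1 h
  obtain ⟨i, -, rfl⟩ := (Nat.dvd_prime_pow hp).1 hy
  obtain ⟨j, -, rfl⟩ := (Nat.dvd_prime_pow hq).1 hz
  exact ⟨i, j, rfl⟩

end Cfsg.Agent.SmallCofactor
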