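import Cfsg.Agent.Lib.SmallCofactor.Basic
import Cfsg.Agent.Lib.DefectOne.PrincipalOne
import Cfsg.Agent.Lib.BlockCount.GaloisStable
import Cfsg.Agent.Lib.CharInt.Galois
import Cfsg.Agent.Lib.SmallSimple.Low
import Cfsg.Agent.S4503

/-!
# Simple groups of order `3 · 2^b · r`

Parity in the degree relation of the principal `r`-block gives a faithful character of degree
three, hence `r ≤ 7`; its values on `2`-elements are rational, hence `2^b ∣ 8`.
-/

set_option autoImplicit false
set_option linter.style.haveILetI false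
set_option linter.unusedSectionVars false

namespace Cfsg.Agent.SmallCofactor

open Cfsg
open scoped Classical ComplexConjugate

universe u

variable {G : Type u} [Group G] [Fintype G] [IsSimpleGroup G]

/-- Powers of a character are characters. -/
theorem isCharacter_pow_fun {χ : G → ℂ} (h : IsCharacter G χ) (k : ℕ) :
    IsCharacter G (fun g => χ g ^ (k + 1)) := by
  induction k with
  | zero => simpa using h
  | succ k ih => simpa [pow_succ, Pi.mul_def] using Char.IsCharacter.mul ih h

/-- A faithful character of degree three rational on a `2`-subgroup bounds its order by `8`. -/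
theorem card_dvd_eight (hG : ¬ IsMulCommutative G) {χ : IrrCharacter G}
    (hne : χ ≠ Char.trivialChar G) (hdeg : χ.1 1 = 3) (S : Subgroup G)
    (hrat : ∀ g ∈ S, ∃ q : ℚ, χ.1 g = q) (hS : IsPGroup 2 S) : Nat.card S ∣ 8 := by
  have hint : ∀ g : S, g ≠ 1 → ∃ z : ℤ, χ.1 g = z ∧ (z = -2 ∨ z = -1 ∨ z = 0 ∨ z = 1 ∨ z = 2) := by
    intro g hg
    obtain ⟨q, hq⟩ := hrat g g.2
    have hi := CharInt.isIntegral_char (Char.irr_isCharacter χ) (g : G)
    rw [hq] at hi
    have hqi : IsIntegral ℤ q := by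
      have h : ((q : ℚ) : ℂ) = algebraMap ℚ ℂ q := (eq_ratCast _ q).symm
      rw [h] at hi
      exact (isIntegral_algebraMap_iff (algebraMap ℚ ℂ).injective).1 hi
    obtain ⟨z, hz⟩ := IsIntegrallyClosed.isIntegral_iff.1 hqi
    have hval : χ.1 g = (z : ℂ) := by rw [hq, ← hz]; simp
    refine ⟨z, hval, ?_⟩
    have hnorm := CharInt.norm_char_le (Char.irr_isCharacter χ) (g : G)
    rw [hval, hdeg, Complex.norm_intCast, show ‖(3 : ℂ)‖ = 3 by simp] at hnorm
    have hz3 : |z| ≤ 3 := by exact_mod_cast hnorm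
    have hg1 : (g : G) ≠ 1 := fun h => hg (Subtype.ext h)
    have h1 : z ≠ 3 := fun h => hg1 (eq_one_of_apply_eq hG hne (by rw [hval, hdeg, h]; norm_num))
    have h2 : z ≠ -3 := fun h => apply_ne_neg hG hne hg1 (by rw [hval, hdeg, h]; norm_num)
    have := abs_le.1 hz3
    omega
  have hpow : ∀ k, ∃ n : ℕ, ∑ g : S, χ.1 g ^ (k + 1) = (Nat.card S : ℂ) * n := by
    intro k
    obtain ⟨n, hn⟩ := Char.IsCharacter.exists_nat_classInner
      (Char.IsCharacter.restrict (isCharacter_pow_fun (Char.irr_isCharacter χ) k) S)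
      (Char.irr_isCharacter (Char.trivialChar S))
    refine ⟨n, ?_⟩
    have hc : (Nat.card S : ℂ) ≠ 0 := Nat.cast_ne_zero.2 Nat.card_pos.ne'
    rw [← hn, classInner, ← mul_assoc, mul_inv_cancel₀ hc, one_mul]
    refine Finset.sum_congr rfl fun g _ => ?_
    simp [Char.trivialChar]
  obtain ⟨n4, h4⟩ := hpow 4
  obtain ⟨n2, h2⟩ := hpow 2
  obtain ⟨n0, h0⟩ := hpow 0
  have hsum : ∑ g : S, (χ.1 g ^ 5 - 5 * χ.1 g ^ 3 + 4 * χ.1 g) = 120 := by
    rw [Finset.sum_eq_single (1 : S) (fun g _ hg => ?_) (fun h => absurd (Finset.mem_univ _) h)]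
    · rw [OneMemClass.coe_one, hdeg]; norm_num
    · obtain ⟨z, hz, hcases⟩ := hint g hg
      rw [hz]
      rcases hcases with rfl | rfl | rfl | rfl | rfl <;> norm_num
  rw [Finset.sum_add_distrib, Finset.sum_sub_distrib, ← Finset.mul_sum, ← Finset.mul_sum, h4, h2,
    show ∑ g : S, χ.1 g = (Nat.card S : ℂ) * n0 by simpa using h0] at hsum
  have h120 : ((Nat.card S : ℤ) * ((n4 : ℤ) - 5 * n2 + 4 * n0) : ℤ) = 120 := by
    apply Int.cast_injective (α := ℂ)
    push_cast
    linear_combination hsum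
  have hdvd : (Nat.card S : ℤ) ∣ (120 : ℕ) := ⟨_, h120.symm⟩
  have hdvd' := Int.natCast_dvd_natCast.1 hdvd
  obtain ⟨e, he⟩ := IsPGroup.iff_card.1 hS
  rw [he] at hdvd' ⊢
  exact (Nat.Coprime.pow_left e (by norm_num : Nat.Coprime 2 15)).dvd_of_dvd_mul_right
    (show 2 ^ e ∣ 8 * 15 from hdvd')

/-- No simple group has order `120`. -/
theorem card_ne_120 (hG : ¬ IsMulCommutative G) : Nat.card G ≠ 120 := by
  intro h
  haveI : Fact (Nat.Prime 5) := ⟨by norm_num⟩
  obtain ⟨P⟩ : Nonempty (Sylow 5 G) := inferInstance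
  have hP : Nat.card (P : Subgroup G) = 5 := by
    have := SmallSimple.card_sylow_eq_pow P 1 24 (by rw [h]; norm_num) (by norm_num)
    simpa using this
  have hcN := SmallSimple.card_sylow_mul_card_normalizer P
  have h5N : 5 ∣ Nat.card (Subgroup.normalizer ((P : Subgroup G) : Set G)) :=
    hP.symm.dvd.trans (Subgroup.card_dvd_of_le (Subgroup.le_normalizer (H := (P : Subgroup G))))
  have h5 := SmallSimple.five_le_card_sylow hG (p := 5) (by rw [h]; norm_num)
  have hd : Nat.card (Sylow 5 G) ∣ 24 := by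
    obtain ⟨c, hc⟩ := h5N
    rw [hc, h] at hcN
    refine ⟨c, ?_⟩
    have : 5 * (Nat.card (Sylow 5 G) * c) = 120 := by rw [← hcN]; ring
    omega
  have hmod : Nat.card (Sylow 5 G) % 5 = 1 := card_sylow_modEq_one 5 G
  have h6 : Nat.card (Sylow 5 G) = 6 := by
    have hle := Nat.le_of_dvd (by norm_num) hd
    interval_cases Nat.card (Sylow 5 G) <;> omega
  set H := Subgroup.normalizer ((P : Subgroup G) : Set G)
  have hidx : H.index = 6 := (Sylow.card_eq_index_normalizer P).symm.trans h6
  have hH : H ≠ ⊤ := fun ht => by rw [ht, Subgroup.index_top] at hidx; omega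
  let e : G ⧸ H ≃ Fin 6 := Finite.equivFinOfCardEq hidx
  let f : G →* Equiv.Perm (Fin 6) :=
    (Equiv.permCongrHom e).toMonoidHom.comp (MulAction.toPermHom G (G ⧸ H))
  have hf : Function.Injective f :=
    (Equiv.permCongrHom e).injective.comp (SmallSimple.toPermHom_injective hH)
  let g : G →* alternatingGroup (Fin 6) :=
    f.codRestrict _ fun x => SmallSimple.mem_alternating_of_simple hG f x
  have hg : Function.Injective g := fun x y h => hf (congrArg Subtype.val h)
  have hA : Nat.card (alternatingGroup (Fin 6)) = 360 := by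
    rw [nat_card_alternatingGroup, Nat.card_fin]; rfl
  have hcard : Nat.card g.range = 120 := by
    rw [← Nat.card_congr (MonoidHom.ofInjective hg).toEquiv, h]
  haveI : IsSimpleGroup (alternatingGroup (Fin 6)) := alternatingGroup.isSimpleGroup (by simp)
  have hK : g.range ≠ ⊤ := fun ht => by rw [ht, Subgroup.card_top, hA] at hcard; omega
  have hmul := Subgroup.card_mul_index g.range
  rw [hcard, hA] at hmul
  have hdiv := SmallSimple.card_dvd_factorial hK
  rw [hA, show g.range.index = 3 by omega] at hdiv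
  norm_num [Nat.factorial] at hdiv

/-- Simple groups of order `3 · 2^b · r` have order `60` or `168`. -/
theorem card_of_prime (hG : ¬ IsMulCommutative G) {r b : ℕ} (hr : r.Prime) (hr2 : r ≠ 2)
    (hr3 : r ≠ 3) (hcard : Nat.card G = 3 * 2 ^ b * r) :
    Nat.card G = 60 ∨ Nat.card G = 168 := by
  haveI : Fact r.Prime := ⟨hr⟩
  have h5 : 5 ≤ r := by
    have := hr.two_le
    rcases Nat.lt_or_ge r 5 with h | h
    · interval_cases r <;> first | omega | exact absurd hr (by norm_num)
    · exact h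
  obtain ⟨M, hM⟩ := CharInt.exists_isPModular_of_prime hr
  haveI := hM.2.1
  have hpM := hM.2.2
  obtain ⟨P⟩ : Nonempty (Sylow r G) := inferInstance
  have hnr : ¬ r ∣ 3 * 2 ^ b := fun h => by
    rcases hr.dvd_mul.1 h with h | h
    · exact hr3 ((Nat.prime_dvd_prime_iff_eq hr Nat.prime_three).1 h)
    · exact hr2 ((Nat.prime_dvd_prime_iff_eq hr Nat.prime_two).1 (hr.dvd_of_dvd_pow h))
  have hP : Nat.card P = r := by
    have := SmallSimple.card_sylow_eq_pow P 1 (3 * 2 ^ b) (by rw [pow_one, hcard]; ring) hnr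
    simpa using this
  obtain ⟨s⟩ := DefectOne.primeShape hpM hP (M := M) rfl
  set m := (Subgroup.centralizer ((P : Subgroup G) : Set G)).relIndex
    (Subgroup.normalizer ((P : Subgroup G) : Set G))
  have hmr : ¬ r ∣ m := fun h => by
    have h1 := Nat.le_of_dvd (by omega) (h.trans s.m_dvd)
    omega
  have hXr : ∀ χ ∈ s.X, ¬ r ∣ charDegree χ.1 := fun χ hχ h => by
    have h1 := s.X_deg χ hχ
    rw [Int.modEq_iff_dvd] at h1
    have h2 : (r : ℤ) ∣ s.εX χ := by
      have := dvd_add h1 (Int.natCast_dvd_natCast.2 h)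
      simpa using this
    rcases s.hεX χ hχ with e | e <;> rw [e] at h2
    · exact hr.not_dvd_one (Int.natCast_dvd_natCast.1 (by simpa using h2))
    · exact hr.not_dvd_one (Int.natCast_dvd_natCast.1 (by simpa using h2))
  have hYr : ∀ θ ∈ s.Y, ¬ r ∣ charDegree θ.1 := fun θ hθ h => by
    have h1 := s.Y_deg θ hθ
    rw [Int.modEq_iff_dvd] at h1
    have h2 : (r : ℤ) ∣ s.ε * m := by
      have := dvd_add h1 (Int.natCast_dvd_natCast.2 h)
      simpa using this
    rcases s.hε with e | e <;> rw [e] at h2 <;>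
      exact hmr (Int.natCast_dvd_natCast.1 (by simpa using h2))
  have hodd : ∀ χ : IrrCharacter G, ¬ r ∣ charDegree χ.1 → Odd (charDegree χ.1) →
      χ = Char.trivialChar G ∨ charDegree χ.1 = 3 := fun χ h1 h2 => by
    have hd : charDegree χ.1 ∣ 3 * 2 ^ b * r := hcard ▸ Char.charDegree_dvd_card χ
    have hd' : charDegree χ.1 ∣ 3 :=
      ((Nat.coprime_two_right.2 h2).pow_right b).dvd_of_dvd_mul_right
        (((hr.coprime_iff_not_dvd.2 h1).symm).dvd_of_dvd_mul_right hd)
    rcases (Nat.dvd_prime Nat.prime_three).1 hd' with h | h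
    · exact Or.inl (by_contra fun hne => by have := one_lt_degree hG hne; omega)
    · exact Or.inr h
  have hX3 : ∀ χ ∈ s.X, charDegree χ.1 ≠ 3 := fun χ hχ h => by
    have h1 := s.X_deg χ hχ
    rw [h, Int.modEq_iff_dvd] at h1
    rcases s.hεX χ hχ with e | e <;> rw [e] at h1
    · have := Int.le_of_dvd (by norm_num) (show (r : ℤ) ∣ 2 by simpa using h1.neg_right)
      omega
    · have := Int.le_of_dvd (by norm_num) (show (r : ℤ) ∣ 4 by simpa using h1.neg_right)
      omega
  have heven : ∀ χ ∈ s.X, χ ≠ Char.trivialChar G → Even (charDegree χ.1) := fun χ hχ hne => by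
    by_contra h
    rcases hodd χ (hXr χ hχ) (Nat.not_even_iff_odd.1 h) with h' | h'
    · exact hne h'
    · exact hX3 χ hχ h'
  obtain ⟨θ, hθ⟩ : ∃ θ, θ ∈ s.Y := by
    refine Finset.card_pos.1 ?_
    rw [s.cardY]
    exact Nat.div_pos (Nat.le_of_dvd (by omega) s.m_dvd)
      (Nat.pos_of_ne_zero fun h => hmr (h ▸ dvd_zero r))
  have hrelC := s.relation θ hθ 1 (by simp [IsPRegular, hr.ne_one])
  simp only [← Char.charDegree_cast] at hrelC
  have hrel : s.ε * (charDegree θ.1 : ℤ) = ∑ χ ∈ s.X, s.εX χ * (charDegree χ.1 : ℤ) := by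
    apply Int.cast_injective (α := ℂ)
    push_cast
    exact hrelC
  have htriv : Char.trivialChar G ∈ s.X ∨ Char.trivialChar G ∈ s.Y := by
    have h : Char.trivialChar G ∈ principalBlock M G := Blocks.trivial_mem_principalBlock
    rw [s.union] at h
    exact h
  have hsumeven : ∀ T ⊆ s.X, Char.trivialChar G ∉ T →
      Even (∑ χ ∈ T, s.εX χ * (charDegree χ.1 : ℤ)) := fun T hT hn => by
    refine Finset.even_sum _ fun χ hχ => Even.mul_left ?_ _
    exact (Int.even_coe_nat _).2 (heven χ (hT hχ) fun h => hn (h ▸ hχ))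
  have htdeg : charDegree (Char.trivialChar G).1 = 1 := by
    apply Nat.cast_injective (R := ℂ)
    rw [Char.charDegree_cast, Nat.cast_one]
    rfl
  have hεodd : Odd s.ε := by
    rcases s.hε with e | e <;> rw [e]
    · exact ⟨0, rfl⟩
    · exact ⟨-1, rfl⟩
  have htX : Char.trivialChar G ∈ s.X := by
    refine htriv.resolve_right fun hY => ?_
    have hθdeg : charDegree θ.1 = 1 := by
      rw [← htdeg]
      apply Nat.cast_injective (R := ℂ)
      rw [Char.charDegree_cast, Char.charDegree_cast]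
      exact s.agree θ hθ _ hY 1 (by simp [IsPRegular, hr.ne_one])
    have h := hsumeven s.X subset_rfl (fun h => Finset.disjoint_left.1 s.disj h hY)
    rw [← hrel, hθdeg, Nat.cast_one, mul_one] at h
    exact Int.not_even_iff_odd.2 hεodd h
  have hθne : θ ≠ Char.trivialChar G := fun h => Finset.disjoint_left.1 s.disj htX (h ▸ hθ)
  have hθodd : Odd (charDegree θ.1) := by
    by_contra h
    have h1 : Even (s.ε * (charDegree θ.1 : ℤ)) :=
      Even.mul_left ((Int.even_coe_nat _).2 (Nat.not_odd_iff_even.1 h)) _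
    rw [hrel, ← Finset.add_sum_erase _ _ htX, Int.even_add] at h1
    have h2 := h1.2 (hsumeven _ (Finset.erase_subset _ _) (Finset.notMem_erase _ _))
    rw [htdeg, Nat.cast_one, mul_one] at h2
    rcases s.hεX _ htX with e | e <;> rw [e] at h2 <;> revert h2 <;> decide
  have hθ3 : charDegree θ.1 = 3 := (hodd θ (hYr θ hθ) hθodd).resolve_left hθne
  have hθ1 : θ.1 1 = 3 := by rw [← Char.charDegree_cast, hθ3]; norm_num
  -- `r ≤ 7`
  have hr7 : r ≤ 7 := by
    have h := Cfsg.Agent.S4503.result r hr ⟨3 * 2 ^ b, by rw [hcard]; ring⟩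
      (fun h => hnr (Nat.dvd_of_mul_dvd_mul_left hr.pos (by
        rw [← pow_two]; exact h.trans (dvd_of_eq (by rw [hcard]; ring)))))
      (fun H hH hc => by
        rcases hH.eq_bot_or_eq_top with e | e <;> subst e
        · rw [Subgroup.card_bot] at hc; exact hr.one_lt.ne hc
        · rw [Subgroup.card_top] at hc; exact not_prime_card hG (hc ▸ hr))
      θ.1 (Char.irr_isCharacter θ) (fun g hg => eq_one_of_apply_eq hG hθne hg)
    rw [hθ3] at h
    exact h
  -- rationality on `2`-elements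
  have htwist : ∀ k : ℕ, k.Coprime (Nat.card G) → ∀ g, IsPRegular r g → θ.1 (g ^ k) = θ.1 g := by
    intro k hk g hg
    let θ' : IrrCharacter G := ⟨fun g => θ.1 (g ^ k), CharInt.isIrrCharacter_pow θ.2 hk⟩
    have hmem : θ ∈ principalBlock M G := by rw [s.union]; exact Or.inr hθ
    have hmem' : θ' ∈ principalBlock M G := by
      rw [BlockCount.mem_principalBlock_iff hM] at hmem ⊢
      show BlockCount.pregSum r (fun g => θ.1 (g ^ k)) ≠ 0
      rwa [BlockCount.pregSum_powTwist r hk]
    have hd' : charDegree θ'.1 = 3 := by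
      apply Nat.cast_injective (R := ℂ)
      rw [Char.charDegree_cast]
      show θ.1 (1 ^ k) = _
      rw [one_pow, hθ1]; norm_num
    rw [s.union] at hmem'
    rcases hmem' with h | h
    · exact absurd hd' (hX3 θ' h)
    · exact s.agree θ' h θ hθ g hg
  obtain ⟨S⟩ : Nonempty (Sylow 2 G) := inferInstance
  have hS8 : Nat.card (S : Subgroup G) ∣ 8 := by
    refine card_dvd_eight hG hθne hθ1 S (fun g hg => ?_) S.2
    refine CharInt.exists_rat_of_forall_pow (Char.irr_isCharacter θ) g fun k hk => ?_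
    obtain ⟨k', hk', he⟩ := CharInt.exists_coprime_pow_eq g hk
    rw [← he]
    refine htwist k' hk' g fun h => ?_
    obtain ⟨j, hj⟩ := IsPGroup.iff_orderOf.1 S.2 ⟨g, hg⟩
    rw [← Subgroup.orderOf_coe] at hj
    exact hr2 ((Nat.prime_dvd_prime_iff_eq hr Nat.prime_two).1 (hr.dvd_of_dvd_pow (hj ▸ h)))
  have hb : b ≤ 3 := by
    haveI : Fact (Nat.Prime 2) := ⟨Nat.prime_two⟩
    rw [SmallSimple.card_sylow_eq_pow S b (3 * r) (by rw [hcard]; ring) (fun h => by
      rcases Nat.prime_two.dvd_mul.1 h with h | h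
      · norm_num at h
      · exact hr2 ((Nat.prime_dvd_prime_iff_eq Nat.prime_two hr).1 h).symm),
      show (8 : ℕ) = 2 ^ 3 by norm_num] at hS8
    exact (Nat.pow_dvd_pow_iff_le_right (by norm_num)).1 hS8
  rcases Nat.lt_or_ge b 3 with h | h
  · left
    refine SmallSimple.card_eq_sixty hG ?_
    rw [hcard]
    have : 2 ^ b ≤ 4 := (Nat.pow_le_pow_right (by norm_num) (show b ≤ 2 by omega)).trans (by norm_num)
    calc 3 * 2 ^ b * r ≤ 3 * 4 * 7 := Nat.mul_le_mul (Nat.mul_le_mul_left 3 this) hr7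
      _ ≤ 100 := by norm_num
  · have hb3 : b = 3 := le_antisymm hb h
    rw [hb3] at hcard
    have key : ∀ n : ℕ, 5 ≤ n → n ≤ 7 → n.Prime → n = 5 ∨ n = 7 := fun n h1 h2 hn => by
      interval_cases n
      · exact Or.inl rfl
      · exact absurd hn (by norm_num)
      · exact Or.inr rfl
    rcases key r h5 hr7 hr with e | e <;> rw [e] at hcard
    · exact absurd hcard (card_ne_120 hG)
    · right; exact hcard

end Cfsg.Agent.SmallCofactor
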